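import Groth.Agent.ResProp.EF.K698.Gr

/-!
# AD0, second half: the graded pieces `gr^n K = F n / F (n+1)` of the complex of an `AlgPkg`

`X : AlgPkg P`, `ψ ∈ X.L a` a lift of the arrow `a : x → y` (flat points):
* `FK X n` : `F n` as an `R`-module, `GK X n = F n / F (n+1)`, an `R`-module and a `D`-module;
* `incx x n : BC x (FK n) → BC x K` (injective for flat `x`, range `Fx x n`), `prx' x n : BC x (FK n) → BC x (GK n)`;
* `LF hx hy hψ n : BC x (FK n) ≃ BC y (FK n)`, `incx (LF v) = ψ (incx v)`;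
* `gkAct hx hy a n : BC x (GK n) ≃ BC y (GK n)`, `gkAct (prx' v) = prx' (LF v)` for every lift, `id`, `comp`, `pull`,
  semilinear over `eta`.
-/

set_option autoImplicit false

universe u v w

open Groth.Agent.ResProp.EF.K980

namespace Groth.Agent.ResProp.EF.K698

section OpCpx

variable {R : Type u} [CommRing R] (X : OpCpx.{u} R)

/-- `F n` over `R`. -/
abbrev FK (n : ℕ) : Submodule R X.K := (X.F n).restrictScalars R

/-- the inclusion `F (n+1) → F n`. -/
theorem FK_succ (n : ℕ) : FK X (n + 1) ≤ FK X n := X.F_succ n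

/-- `gr^n K`. -/
abbrev GK (n : ℕ) : Type u := FK X n ⧸ (FK X (n + 1)).submoduleOf (FK X n)

/-- multiplication by `q` on `F n`. -/
def kmul (n : ℕ) (q : X.Q) : FK X n →ₗ[R] FK X n where
  toFun v := ⟨q • (v : X.K), (X.F n).smul_mem q v.2⟩
  map_add' v w := by ext; simp
  map_smul' r v := by ext; simpa using smul_comm q r (v : X.K)

theorem kmul_coe (n : ℕ) (q : X.Q) (v : FK X n) : ((kmul X n q v : FK X n) : X.K) = q • (v : X.K) := rfl

theorem kmul_le (n : ℕ) (q : X.Q) : (FK X (n + 1)).submoduleOf (FK X n) ≤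
    ((FK X (n + 1)).submoduleOf (FK X n)).comap (kmul X n q) := by
  intro v hv
  exact (X.F (n + 1)).smul_mem q hv

/-- `Q` acts on `gr^n K`. -/
def kqact (n : ℕ) : X.Q →+* Module.End R (GK X n) where
  toFun q := Submodule.mapQ _ _ (kmul X n q) (kmul_le X n q)
  map_one' := by
    apply Submodule.linearMap_qext
    ext v
    change Submodule.Quotient.mk _ = Submodule.Quotient.mk _
    congr 1
    ext
    simp [kmul_coe]
  map_mul' q q' := by
    apply Submodule.linearMap_qext
    ext v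
    change Submodule.Quotient.mk _ = Submodule.Quotient.mk _
    congr 1
    ext
    simp [kmul_coe, mul_smul]
  map_zero' := by
    apply Submodule.linearMap_qext
    ext v
    change Submodule.Quotient.mk _ = Submodule.Quotient.mk _
    congr 1
    ext
    simp [kmul_coe]
  map_add' q q' := by
    apply Submodule.linearMap_qext
    ext v
    change Submodule.Quotient.mk _ = Submodule.Quotient.mk _
    congr 1
    ext
    simp [kmul_coe, add_smul]

theorem kqact_mk (n : ℕ) (q : X.Q) (v : FK X n) :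
    kqact X n q (Submodule.Quotient.mk v) = Submodule.Quotient.mk (kmul X n q v) := rfl

theorem kqact_eq_zero (n : ℕ) (q : X.Q) (hq : X.π q = 0) : kqact X n q = 0 := by
  apply Submodule.linearMap_qext
  ext v
  change Submodule.Quotient.mk _ = 0
  rw [Submodule.Quotient.mk_eq_zero]
  exact X.F_ker n q hq v v.2

/-- `D` acts on `gr^n K`. -/
noncomputable def kdact (n : ℕ) : X.D →+* Module.End R (GK X n) :=
  RingHom.liftOfSurjective (X.π : X.Q →+* X.D) X.π_surj
    ⟨kqact X n, fun q hq => kqact_eq_zero X n q hq⟩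

theorem kdact_pi (n : ℕ) (q : X.Q) : kdact X n (X.π q) = kqact X n q :=
  RingHom.liftOfRightInverse_comp_apply _ _ _ _ _

noncomputable instance modDK (n : ℕ) : Module X.D (GK X n) := Module.compHom _ (kdact X n)

theorem smul_defK (n : ℕ) (d : X.D) (z : GK X n) : d • z = kdact X n d z := rfl

theorem pi_smul_mkK (n : ℕ) (q : X.Q) (v : FK X n) :
    X.π q • (Submodule.Quotient.mk v : GK X n) = Submodule.Quotient.mk (kmul X n q v) := by
  rw [smul_defK, kdact_pi, kqact_mk]

instance towerDK (n : ℕ) : IsScalarTower R X.D (GK X n) := ⟨fun r d z => by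
  obtain ⟨q, rfl⟩ := X.π_surj d
  rw [← map_smul, smul_defK, smul_defK, kdact_pi, kdact_pi]
  induction z using Submodule.Quotient.induction_on with
  | _ v =>
    rw [kqact_mk, kqact_mk, ← Submodule.Quotient.mk_smul]
    congr 1
    ext
    simp [kmul_coe]⟩

variable {X} {R' : Type u} [CommRing R'] {x y : R →+* R'}

/-- the inclusion of `F n` over `R'`. -/
noncomputable def incx (X : OpCpx.{u} R) (x : R →+* R') (n : ℕ) : BC x (FK X n) →ₗ[R'] BC x X.K :=
  BC.map x (FK X n).subtype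

/-- the projection to `gr^n K` over `R'`. -/
noncomputable def prg (X : OpCpx.{u} R) (x : R →+* R') (n : ℕ) :
    BC x (FK X n) →ₗ[R'] BC x (GK X n) :=
  BC.map x (Submodule.mkQ _)

theorem incx_injective (hx : x.Flat) (n : ℕ) : Function.Injective (incx X x n) :=
  BC.map_injective hx Subtype.val_injective

theorem range_incx (n : ℕ) : LinearMap.range (incx X x n) = X.Fx x n := rfl

theorem prg_surjective (n : ℕ) : Function.Surjective (prg X x n) :=
  BC.map_surjective (Submodule.mkQ_surjective _)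

theorem incx_succ (n : ℕ) (v : BC x (FK X (n + 1))) :
    incx X x n (BC.map x (Submodule.inclusion (FK_succ X n)) v) = incx X x (n + 1) v := by
  simp only [incx, BC.map_map]
  rfl

theorem prg_eq_zero (n : ℕ) {v : BC x (FK X n)} (h : prg X x n v = 0) :
    incx X x n v ∈ X.Fx x (n + 1) := by
  have hex : Function.Exact (Submodule.inclusion (FK_succ X n))
      (((FK X (n + 1)).submoduleOf (FK X n)).mkQ) := by
    intro z
    rw [Submodule.mkQ_apply, Submodule.Quotient.mk_eq_zero, Submodule.submoduleOf,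
      Submodule.mem_comap]
    constructor
    · intro hz
      exact ⟨⟨z, hz⟩, rfl⟩
    · rintro ⟨y, rfl⟩
      exact y.2
  obtain ⟨w, hw⟩ := (BC.map_exact (x := x) hex (Submodule.mkQ_surjective _) v).1 h
  exact ⟨w, by rw [← hw]; exact (incx_succ n w).symm⟩

theorem prg_of_mem (hx : x.Flat) (n : ℕ) {v : BC x (FK X n)}
    (h : incx X x n v ∈ X.Fx x (n + 1)) : prg X x n v = 0 := by
  obtain ⟨w, hw⟩ := h
  have : v = BC.map x (Submodule.inclusion (FK_succ X n)) w :=
    incx_injective hx n (by rw [incx_succ]; exact hw.symm)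
  rw [this, prg, BC.map_map]
  have h0 : (Submodule.mkQ ((FK X (n + 1)).submoduleOf (FK X n))) ∘ₗ
      Submodule.inclusion (FK_succ X n) = 0 := by
    ext z
    change Submodule.Quotient.mk _ = 0
    rw [Submodule.Quotient.mk_eq_zero]
    exact z.2
  rw [h0, BC.map_zero']
  rfl

/-- multiplication, bilinear. -/
def kmulB (X : OpCpx.{u} R) (n : ℕ) : X.Q →ₗ[R] FK X n →ₗ[R] FK X n where
  toFun := kmul X n
  map_add' q q' := by ext v; simp [kmul_coe, add_smul]
  map_smul' r q := by ext v; simp [kmul_coe]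

theorem incx_kmul (n : ℕ) (q : BC x X.Q) (v : BC x (FK X n)) :
    incx X x n (BC.bil x (kmulB X n) q v) = X.actQ x q (incx X x n v) := by
  induction q using BC.ind with
  | h0 => simp only [OpCpx.actQ, map_zero, LinearMap.zero_apply]
  | h1 r q =>
    simp only [OpCpx.actQ, map_smul, LinearMap.smul_apply]
    congr 1
    induction v using BC.ind with
    | h0 => simp only [map_zero]
    | h1 r' v =>
      simp only [map_smul]
      congr 1
      rw [BC.bil_bc, incx, BC.map_bc, BC.map_bc, BC.bil_bc]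
      rfl
    | h2 a b ha hb => simp only [map_add, ha, hb]
  | h2 a b ha hb =>
    simp only [OpCpx.actQ] at ha hb ⊢
    simp only [map_add, LinearMap.add_apply, ha, hb]

/-- the multiplication of `BC x D` on `BC x (gr^n K)`. -/
noncomputable def kdmul (X : OpCpx.{u} R) (x : R →+* R') (n : ℕ) :
    BC x X.D →ₗ[R'] BC x (GK X n) →ₗ[R'] BC x (GK X n) :=
  BC.bil x (smulR R X.D (GK X n))

theorem prg_kmul (n : ℕ) (q : BC x X.Q) (v : BC x (FK X n)) :
    prg X x n (BC.bil x (kmulB X n) q v) = kdmul X x n (X.πx x q) (prg X x n v) := by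
  induction q using BC.ind with
  | h0 => simp only [map_zero, LinearMap.zero_apply]
  | h1 r q =>
    simp only [OpCpx.πx, map_smul, LinearMap.smul_apply]
    congr 1
    induction v using BC.ind with
    | h0 => simp only [map_zero]
    | h1 r' v =>
      simp only [map_smul]
      congr 1
      rw [BC.bil_bc, prg, BC.map_bc, BC.map_bc, BC.map_bc, kdmul, BC.bil_bc]
      exact congrArg (bc x) (pi_smul_mkK X n q v).symm
    | h2 a b ha hb => simp only [map_add, ha, hb]
  | h2 a b ha hb =>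
    simp only [map_add, LinearMap.add_apply, ha, hb]

end OpCpx

section tr

variable {R : Type u} [CommRing R] {X : OpCpx.{u} R} {R' R'' : Type u} [CommRing R'] [CommRing R'']
  {x : R →+* R'} {x' : R →+* R''} {f : R' →+* R''}

theorem incx_tr (hx : f.comp x = x') (n : ℕ) (v : BC x (FK X n)) :
    incx X x' n (BC.tr f hx v) = BC.tr f hx (incx X x n v) := (BC.tr_map hx _ v).symm

theorem prg_tr (hx : f.comp x = x') (n : ℕ) (v : BC x (FK X n)) :
    prg X x' n (BC.tr f hx v) = BC.tr f hx (prg X x n v) := (BC.tr_map hx _ v).symm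

end tr

section AlgPkg

variable {R : Type u} [CommRing R] {P : PGpd.{u} R} {X : AlgPkg.{u} P}
  {R' : Type u} [CommRing R'] {x y z : R →+* R'}

/-- a lift on `F n`, as a linear map. -/
noncomputable def LF0 (hx : x.Flat) (hy : y.Flat) {a : P.Hom x y}
    {ψ : BC x X.K ≃ₗ[R'] BC y X.K} (hψ : ψ ∈ X.L a) (n : ℕ) :
    BC x (FK X.toOpCpx n) →ₗ[R'] BC y (FK X.toOpCpx n) :=
  (LinearEquiv.ofInjective (incx X.toOpCpx y n) (incx_injective hy n)).symm.toLinearMap ∘ₗ
    LinearMap.codRestrict (LinearMap.range (incx X.toOpCpx y n))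
      (ψ.toLinearMap ∘ₗ incx X.toOpCpx x n) (fun v => X.L_F a hx hy ψ hψ n _ ⟨v, rfl⟩)

theorem incx_LF0 (hx : x.Flat) (hy : y.Flat) {a : P.Hom x y}
    {ψ : BC x X.K ≃ₗ[R'] BC y X.K} (hψ : ψ ∈ X.L a) (n : ℕ) (v : BC x (FK X.toOpCpx n)) :
    incx X.toOpCpx y n (LF0 hx hy hψ n v) = ψ (incx X.toOpCpx x n v) := by
  have h := LinearEquiv.apply_symm_apply
    (LinearEquiv.ofInjective (incx X.toOpCpx y n) (incx_injective hy n))
    (LinearMap.codRestrict (LinearMap.range (incx X.toOpCpx y n))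
      (ψ.toLinearMap ∘ₗ incx X.toOpCpx x n) (fun v => X.L_F a hx hy ψ hψ n _ ⟨v, rfl⟩) v)
  exact congrArg Subtype.val h

/-- a lift on `F n`. -/
noncomputable def LF (hx : x.Flat) (hy : y.Flat) {a : P.Hom x y}
    {ψ : BC x X.K ≃ₗ[R'] BC y X.K} (hψ : ψ ∈ X.L a) (n : ℕ) :
    BC x (FK X.toOpCpx n) ≃ₗ[R'] BC y (FK X.toOpCpx n) :=
  LinearEquiv.ofLinearMap (LF0 hx hy hψ n) (LF0 hy hx (X.L_inv a hx hy ψ hψ) n)
    (by
      ext v
      apply incx_injective (X := X.toOpCpx) hy n
      rw [LinearMap.comp_apply, incx_LF0, incx_LF0, LinearEquiv.apply_symm_apply]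
      rfl)
    (by
      ext v
      apply incx_injective (X := X.toOpCpx) hx n
      rw [LinearMap.comp_apply, incx_LF0, incx_LF0, LinearEquiv.symm_apply_apply]
      rfl)

theorem incx_LF (hx : x.Flat) (hy : y.Flat) {a : P.Hom x y}
    {ψ : BC x X.K ≃ₗ[R'] BC y X.K} (hψ : ψ ∈ X.L a) (n : ℕ) (v : BC x (FK X.toOpCpx n)) :
    incx X.toOpCpx y n (LF hx hy hψ n v) = ψ (incx X.toOpCpx x n v) := incx_LF0 hx hy hψ n v

/-- a lift on `gr^n K`, as a linear map. -/
noncomputable def LG0 (hx : x.Flat) (hy : y.Flat) {a : P.Hom x y}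
    {ψ : BC x X.K ≃ₗ[R'] BC y X.K} (hψ : ψ ∈ X.L a) (n : ℕ) :
    BC x (GK X.toOpCpx n) →ₗ[R'] BC y (GK X.toOpCpx n) :=
  have key : ∀ v w : BC x (FK X.toOpCpx n), prg X.toOpCpx x n v = prg X.toOpCpx x n w →
      prg X.toOpCpx y n (LF hx hy hψ n v) = prg X.toOpCpx y n (LF hx hy hψ n w) := by
    intro v w h
    rw [← sub_eq_zero, ← map_sub, ← map_sub]
    apply prg_of_mem hy n
    rw [incx_LF]
    refine X.L_F a hx hy ψ hψ (n + 1) _ (prg_eq_zero n ?_)
    rw [map_sub, h, sub_self]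
  { toFun := fun c => prg X.toOpCpx y n (LF hx hy hψ n (prg_surjective n c).choose)
    map_add' := fun c c' => by
      rw [← map_add, ← map_add]
      apply key
      rw [(prg_surjective n (c + c')).choose_spec, map_add, (prg_surjective n c).choose_spec,
        (prg_surjective n c').choose_spec]
    map_smul' := fun r c => by
      rw [RingHom.id_apply, ← map_smul, ← map_smul]
      apply key
      rw [(prg_surjective n (r • c)).choose_spec, map_smul, (prg_surjective n c).choose_spec] }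

theorem LG0_prg (hx : x.Flat) (hy : y.Flat) {a : P.Hom x y}
    {ψ : BC x X.K ≃ₗ[R'] BC y X.K} (hψ : ψ ∈ X.L a) (n : ℕ) (v : BC x (FK X.toOpCpx n)) :
    LG0 hx hy hψ n (prg X.toOpCpx x n v) = prg X.toOpCpx y n (LF hx hy hψ n v) := by
  change prg X.toOpCpx y n (LF hx hy hψ n (prg_surjective n _).choose) = _
  rw [← sub_eq_zero, ← map_sub, ← map_sub]
  apply prg_of_mem hy n
  rw [incx_LF]
  refine X.L_F a hx hy ψ hψ (n + 1) _ (prg_eq_zero n ?_)
  rw [map_sub, (prg_surjective n _).choose_spec, sub_self]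

/-- two lifts of the same arrow agree on `gr^n K`. -/
theorem prg_LF_eq (hx : x.Flat) (hy : y.Flat) {a : P.Hom x y}
    {ψ ψ' : BC x X.K ≃ₗ[R'] BC y X.K} (hψ : ψ ∈ X.L a) (hψ' : ψ' ∈ X.L a) (n : ℕ)
    (v : BC x (FK X.toOpCpx n)) :
    prg X.toOpCpx y n (LF hx hy hψ n v) = prg X.toOpCpx y n (LF hx hy hψ' n v) := by
  rw [← sub_eq_zero, ← map_sub]
  apply prg_of_mem hy n
  rw [map_sub, incx_LF, incx_LF]
  have hχ : ψ.trans ψ'.symm ∈ X.L (P.id x) := by
    rw [← P.comp_inv a]
    exact X.L_comp a (P.inv a) hx hy hx ψ hψ _ (X.L_inv a hx hy ψ' hψ')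
  obtain ⟨T, hT, hTv⟩ := (X.L_one x _ hx).1 hχ
  have h1 : ψ (incx X.toOpCpx x n v) - ψ' (incx X.toOpCpx x n v) =
      ψ' (T (incx X.toOpCpx x n v)) := by
    have := congrArg ψ' (hTv (incx X.toOpCpx x n v))
    rw [LinearEquiv.trans_apply, LinearEquiv.apply_symm_apply, map_add] at this
    rw [this]
    abel
  rw [h1]
  refine X.L_F a hx hy ψ' hψ' (n + 1) _ ?_
  -- `T` raises the filtration by one
  rw [DDx_eq] at hT
  obtain ⟨d, rfl⟩ := hT
  clear hTv h1 hχ
  induction d using BC.ind with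
  | h0 => rw [map_zero, LinearMap.zero_apply]; exact zero_mem _
  | h1 r S =>
    rw [map_smul, LinearMap.smul_apply]
    refine Submodule.smul_mem _ _ ?_
    induction v using BC.ind with
    | h0 => rw [map_zero, map_zero]; exact zero_mem _
    | h1 r' w =>
      rw [map_smul, map_smul]
      refine Submodule.smul_mem _ _ ?_
      rw [opr_bc, incx, BC.map_bc, BC.map_bc]
      exact ⟨bc x ⟨(S : X.K →ₗ[R] X.K) w, X.DD_F 1 n S S.2 w w.2⟩, by rw [BC.map_bc]; rfl⟩
    | h2 p q hp hq => rw [map_add, map_add]; exact add_mem hp hq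
  | h2 p q hp hq => rw [map_add, LinearMap.add_apply]; exact add_mem hp hq

/-- **the action of an arrow on `gr^n K`.** -/
noncomputable def gkAct (hx : x.Flat) (hy : y.Flat) (a : P.Hom x y) (n : ℕ) :
    BC x (GK X.toOpCpx n) ≃ₗ[R'] BC y (GK X.toOpCpx n) :=
  LinearEquiv.ofLinearMap (LG0 hx hy (X.L_ne a hx hy).choose_spec n)
    (LG0 hy hx (X.L_inv a hx hy _ (X.L_ne a hx hy).choose_spec) n)
    (by
      ext c
      obtain ⟨v, rfl⟩ := prg_surjective n c
      rw [LinearMap.comp_apply, LG0_prg, LG0_prg]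
      change prg X.toOpCpx y n _ = prg X.toOpCpx y n v
      congr 1
      apply incx_injective (X := X.toOpCpx) hy n
      rw [incx_LF, incx_LF, LinearEquiv.apply_symm_apply])
    (by
      ext c
      obtain ⟨v, rfl⟩ := prg_surjective n c
      rw [LinearMap.comp_apply, LG0_prg, LG0_prg]
      change prg X.toOpCpx x n _ = prg X.toOpCpx x n v
      congr 1
      apply incx_injective (X := X.toOpCpx) hx n
      rw [incx_LF, incx_LF, LinearEquiv.symm_apply_apply])

theorem gkAct_prg (hx : x.Flat) (hy : y.Flat) {a : P.Hom x y}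
    {ψ : BC x X.K ≃ₗ[R'] BC y X.K} (hψ : ψ ∈ X.L a) (n : ℕ) (v : BC x (FK X.toOpCpx n)) :
    gkAct hx hy a n (prg X.toOpCpx x n v) = prg X.toOpCpx y n (LF hx hy hψ n v) :=
  (LG0_prg hx hy (X.L_ne a hx hy).choose_spec n v).trans
    (prg_LF_eq hx hy (X.L_ne a hx hy).choose_spec hψ n v)

theorem gkAct_id (hx : x.Flat) (n : ℕ) :
    gkAct (X := X) hx hx (P.id x) n = LinearEquiv.refl R' _ := by
  ext c
  obtain ⟨v, rfl⟩ := prg_surjective n c
  rw [gkAct_prg hx hx (refl_mem hx)]
  change prg X.toOpCpx x n _ = prg X.toOpCpx x n v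
  congr 1
  apply incx_injective (X := X.toOpCpx) hx n
  rw [incx_LF]
  rfl

theorem gkAct_comp (hx : x.Flat) (hy : y.Flat) (hz : z.Flat) (a : P.Hom x y) (b : P.Hom y z)
    (n : ℕ) : gkAct (X := X) hx hz (P.comp a b) n = (gkAct hx hy a n).trans (gkAct hy hz b n) := by
  ext c
  obtain ⟨v, rfl⟩ := prg_surjective n c
  obtain ⟨ψ, hψ⟩ := X.L_ne a hx hy
  obtain ⟨χ, hχ⟩ := X.L_ne b hy hz
  rw [LinearEquiv.trans_apply, gkAct_prg hx hy hψ, gkAct_prg hy hz hχ,
    gkAct_prg hx hz (X.L_comp a b hx hy hz ψ hψ χ hχ)]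
  congr 1
  apply incx_injective (X := X.toOpCpx) hz n
  rw [incx_LF, incx_LF, incx_LF]
  rfl

theorem gkAct_pull {R'' : Type u} [CommRing R''] (f : R' →+* R'') {x' y' : R →+* R''}
    (hfx : f.comp x = x') (hfy : f.comp y = y') (hx : x.Flat) (hy : y.Flat) (hx' : x'.Flat)
    (hy' : y'.Flat) (a : P.Hom x y) (n : ℕ) :
    gkAct (X := X) hx' hy' (P.pull f hfx hfy a) n = BC.pullE f hfx hfy (gkAct hx hy a n) := by
  apply LinearEquiv.toLinearMap_injective
  refine BC.hom_ext_tr hfx fun c => ?_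
  obtain ⟨v, rfl⟩ := prg_surjective n c
  obtain ⟨ψ, hψ⟩ := X.L_ne a hx hy
  have h1 : gkAct (X := X) hx' hy' (P.pull f hfx hfy a) n (BC.tr f hfx (prg X.toOpCpx x n v)) =
      BC.tr f hfy (gkAct hx hy a n (prg X.toOpCpx x n v)) := by
    rw [← prg_tr, gkAct_prg hx' hy' (X.L_pull f hfx hfy a hx hy hx' hy' ψ hψ),
      gkAct_prg hx hy hψ, ← prg_tr]
    congr 1
    apply incx_injective (X := X.toOpCpx) hy' n
    rw [incx_LF, incx_tr, incx_tr, incx_LF, BC.pullE_tr]
  refine Eq.trans h1 ?_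
  exact (BC.pullE_tr hfx hfy (gkAct hx hy a n) (prg X.toOpCpx x n v)).symm

/-- **semilinearity over `D`.** -/
theorem gkAct_smul (hx : x.Flat) (hy : y.Flat) (a : P.Hom x y) (n : ℕ)
    (d : BC x X.D) (c : BC x (GK X.toOpCpx n)) :
    gkAct hx hy a n (kdmul X.toOpCpx x n d c) =
      kdmul X.toOpCpx y n (X.eta.act a d) (gkAct hx hy a n c) := by
  obtain ⟨v, rfl⟩ := prg_surjective n c
  obtain ⟨ψ, hψ⟩ := X.L_ne a hx hy
  have hs : ∀ (t : R →+* R'), Function.Surjective (X.πx t) := fun t =>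
    BC.map_surjective (x := t) (g := X.π.toLinearMap) X.π_surj
  obtain ⟨q, rfl⟩ := hs x d
  obtain ⟨q', hq'⟩ := hs y (X.eta.act a (X.πx x q))
  rw [← hq', ← prg_kmul, gkAct_prg hx hy hψ, gkAct_prg hx hy hψ, ← prg_kmul, ← sub_eq_zero,
    ← map_sub]
  apply prg_of_mem hy n
  rw [map_sub, incx_LF, incx_kmul, incx_kmul, incx_LF]
  exact X.L_semF a hx hy ψ hψ n q q' hq'.symm _ ⟨v, rfl⟩

end AlgPkg

end Groth.Agent.ResProp.EF.K698
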