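import Groth.Agent.ResProp.EF.K698.OpBC
import Groth.Agent.ResProp.EF.K980.Alg

/-!
# AD0: the graded pieces `gr^j DD` of an `AlgPkg`

* `X.grD j` : `DD j / DD (j+1)` as an `R`-module and a `D`-module;
* `grAct a hx hy : BC x (gr j) ≃ₗ[R'] BC y (gr j)`: conjugation by any lift of the arrow `a`.
-/

set_option autoImplicit false

universe u v w

open Groth.Agent.ResProp.EF.K980

namespace Groth.Agent.ResProp.EF.K698

section OpCpx

variable {R : Type u} [CommRing R] (X : OpCpx.{u} R)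

/-- the graded piece `gr^j DD`. -/
abbrev grD (j : ℕ) : Type u := gr X.DD j

/-- left multiplication by `q` on `DD j`. -/
def lmul (j : ℕ) (q : X.Q) : X.DD j →ₗ[R] X.DD j where
  toFun S := ⟨smulR R X.Q X.K q ∘ₗ (S : X.K →ₗ[R] X.K), X.DD_Q j q S S.2⟩
  map_add' S T := by ext v; simp
  map_smul' r S := by ext v; simp

theorem lmul_coe (j : ℕ) (q : X.Q) (S : X.DD j) :
    ((lmul X j q S : X.DD j) : X.K →ₗ[R] X.K) = smulR R X.Q X.K q ∘ₗ (S : X.K →ₗ[R] X.K) := rfl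

theorem lmul_le (j : ℕ) (q : X.Q) : (X.DD (j + 1)).submoduleOf (X.DD j) ≤
    ((X.DD (j + 1)).submoduleOf (X.DD j)).comap (lmul X j q) := by
  intro S hS
  exact X.DD_Q (j + 1) q S hS

/-- `Q` acts on `gr^j DD`. -/
def qact (j : ℕ) : X.Q →+* Module.End R (grD X j) where
  toFun q := Submodule.mapQ _ _ (lmul X j q) (lmul_le X j q)
  map_one' := by
    apply Submodule.linearMap_qext
    ext S
    simp only [LinearMap.comp_apply, Submodule.mapQ_apply, Submodule.mkQ_apply]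
    change Submodule.Quotient.mk _ = Submodule.Quotient.mk _
    congr 1
    ext v
    simp [lmul_coe]
  map_mul' q q' := by
    apply Submodule.linearMap_qext
    ext S
    change Submodule.Quotient.mk _ = Submodule.Quotient.mk _
    congr 1
    ext v
    simp [lmul_coe, mul_smul]
  map_zero' := by
    apply Submodule.linearMap_qext
    ext S
    change Submodule.Quotient.mk _ = Submodule.Quotient.mk _
    congr 1
    ext v
    simp [lmul_coe]
  map_add' q q' := by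
    apply Submodule.linearMap_qext
    ext S
    change Submodule.Quotient.mk _ = Submodule.Quotient.mk _
    congr 1
    ext v
    simp [lmul_coe]

theorem qact_mk (j : ℕ) (q : X.Q) (S : X.DD j) :
    qact X j q (Submodule.Quotient.mk S) = Submodule.Quotient.mk (lmul X j q S) := rfl

theorem qact_eq_zero (j : ℕ) (q : X.Q) (hq : X.π q = 0) : qact X j q = 0 := by
  apply Submodule.linearMap_qext
  ext S
  change Submodule.Quotient.mk _ = 0
  rw [Submodule.Quotient.mk_eq_zero]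
  exact X.DD_ker j q hq S S.2

/-- `D` acts on `gr^j DD`. -/
noncomputable def dact (j : ℕ) : X.D →+* Module.End R (grD X j) :=
  RingHom.liftOfSurjective (X.π : X.Q →+* X.D) X.π_surj
    ⟨qact X j, fun q hq => qact_eq_zero X j q hq⟩

theorem dact_pi (j : ℕ) (q : X.Q) : dact X j (X.π q) = qact X j q :=
  RingHom.liftOfRightInverse_comp_apply _ _ _ _ _

noncomputable instance modD (j : ℕ) : Module X.D (grD X j) := Module.compHom _ (dact X j)

theorem smul_def (j : ℕ) (d : X.D) (z : grD X j) : d • z = dact X j d z := rfl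

theorem pi_smul_mk (j : ℕ) (q : X.Q) (S : X.DD j) :
    X.π q • (Submodule.Quotient.mk S : grD X j) = Submodule.Quotient.mk (lmul X j q S) := by
  rw [smul_def, dact_pi, qact_mk]

instance towerD (j : ℕ) : IsScalarTower R X.D (grD X j) := ⟨fun r d z => by
  obtain ⟨q, rfl⟩ := X.π_surj d
  rw [← map_smul, smul_def, smul_def, dact_pi, dact_pi]
  induction z using Submodule.Quotient.induction_on with
  | _ S =>
    rw [qact_mk, qact_mk, ← Submodule.Quotient.mk_smul]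
    congr 1
    ext v
    simp [lmul_coe]⟩

variable {X} in
theorem DD_le {i j : ℕ} (h : i ≤ j) : X.DD j ≤ X.DD i := antitone_nat_of_succ_le X.DD_succ h

variable {X} {R' : Type u} [CommRing R'] {x y : R →+* R'}

theorem DDx_eq (j : ℕ) : X.DDx x j = DDx X.DD x j := by
  unfold OpCpx.DDx opBC subBC DDx opr
  rw [LinearMap.range_comp]

theorem inj_opr (hx : x.Flat) {j : ℕ} (hj : 1 ≤ j) : Function.Injective (opr X.DD x j) := by
  intro a b hab
  have h1 : ∀ d : BC x (X.DD j), opr X.DD x 1 (BC.map x (Submodule.inclusion (DD_le hj)) d) =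
      opr X.DD x j d := by
    intro d
    simp only [opr, LinearMap.comp_apply, BC.map_map]
    rfl
  rw [← h1, ← h1] at hab
  exact BC.map_injective hx (Submodule.inclusion_injective (DD_le hj)) (X.emb_inj x hx hab)

/-- left multiplication, bilinear. -/
def lmulB (X : OpCpx.{u} R) (j : ℕ) : X.Q →ₗ[R] X.DD j →ₗ[R] X.DD j where
  toFun := lmul X j
  map_add' q q' := by ext S v; simp [lmul_coe]
  map_smul' r q := by ext S v; simp [lmul_coe]

theorem actQ_opr {j : ℕ} (q : BC x X.Q) (d : BC x (X.DD j)) :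
    X.actQ x q ∘ₗ opr X.DD x j d = opr X.DD x j (BC.bil x (lmulB X j) q d) := by
  induction q using BC.ind with
  | h0 =>
    simp only [OpCpx.actQ, map_zero, LinearMap.zero_comp, LinearMap.zero_apply]
  | h1 r q =>
    simp only [OpCpx.actQ, map_smul, LinearMap.smul_comp, LinearMap.smul_apply]
    congr 1
    induction d using BC.ind with
    | h0 => simp
    | h1 r' S =>
      rw [map_smul, map_smul, LinearMap.comp_smul, map_smul, BC.bil_bc, opr_bc, opr_bc]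
      congr 1
      refine BC.hom_ext fun v => ?_
      rw [LinearMap.comp_apply, BC.map_bc, BC.bil_bc, BC.map_bc]
      rfl
    | h2 a b ha hb =>
      rw [map_add, LinearMap.comp_add, ha, hb, ← map_add, ← map_add]
  | h2 a b ha hb =>
    rw [map_add, LinearMap.add_apply, map_add, ← ha, ← hb]
    simp only [OpCpx.actQ, map_add, LinearMap.add_comp]

theorem actQ_mem {j : ℕ} (q : BC x X.Q) {φ : BC x X.K →ₗ[R'] BC x X.K} (hφ : φ ∈ DDx X.DD x j) :
    X.actQ x q ∘ₗ φ ∈ DDx X.DD x j := by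
  obtain ⟨d, rfl⟩ := hφ
  exact ⟨_, (actQ_opr q d).symm⟩

/-- the multiplication of `BC x D` on `BC x (gr^j DD)`. -/
noncomputable def dmul (X : OpCpx.{u} R) (x : R →+* R') (j : ℕ) :
    BC x X.D →ₗ[R'] BC x (grD X j) →ₗ[R'] BC x (grD X j) :=
  BC.bil x (smulR R X.D (grD X j))

theorem cls_actQ (hx : x.Flat) {j : ℕ} (hj : 1 ≤ j) (q : BC x X.Q)
    {φ : BC x X.K →ₗ[R'] BC x X.K} (hφ : φ ∈ DDx X.DD x j) :
    cls X.DD x j (X.actQ x q ∘ₗ φ) = dmul X x j (X.πx x q) (cls X.DD x j φ) := by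
  obtain ⟨d, rfl⟩ := hφ
  rw [actQ_opr, cls_opr (inj_opr hx hj), cls_opr (inj_opr hx hj)]
  induction q using BC.ind with
  | h0 => simp only [map_zero, LinearMap.zero_apply]
  | h1 r q =>
    simp only [OpCpx.πx, map_smul, LinearMap.smul_apply]
    congr 1
    induction d using BC.ind with
    | h0 => simp only [map_zero]
    | h1 r' S =>
      rw [map_smul, map_smul, map_smul, map_smul]
      congr 1
      rw [BC.bil_bc, BC.map_bc, BC.map_bc, BC.map_bc, dmul, BC.bil_bc]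
      exact congrArg (bc x) (pi_smul_mk X j q S).symm
    | h2 a b ha hb => simp only [map_add, ha, hb]
  | h2 a b ha hb =>
    simp only [map_add, LinearMap.add_apply, ha, hb]

end OpCpx

section AlgPkg

variable {R : Type u} [CommRing R] {P : PGpd.{u} R} (X : AlgPkg.{u} P)
  {R' : Type u} [CommRing R'] {x y z : R →+* R'}

variable {X}

theorem conj_mem (hx : x.Flat) (hy : y.Flat) {a : P.Hom x y} {ψ : BC x X.K ≃ₗ[R'] BC y X.K}
    (hψ : ψ ∈ X.L a) {j : ℕ} (hj : 1 ≤ j) {φ : BC x X.K →ₗ[R'] BC x X.K}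
    (hφ : φ ∈ DDx X.DD x j) : cjg ψ φ ∈ DDx X.DD y j := by
  rw [← DDx_eq] at hφ ⊢
  exact X.L_conj a hx hy ψ hψ j hj φ hφ

/-- transport of classes by a lift. -/
noncomputable def grL (hx : x.Flat) (hy : y.Flat) {a : P.Hom x y}
    {ψ : BC x X.K ≃ₗ[R'] BC y X.K} (hψ : ψ ∈ X.L a) {j : ℕ} (hj : 1 ≤ j) :
    BC x (grD X.toOpCpx j) →ₗ[R'] BC y (grD X.toOpCpx j) :=
  cj ψ (inj_opr hx hj) (inj_opr hy hj) (X.DD_succ j) (fun _ h => conj_mem hx hy hψ hj h)
    (fun _ h => conj_mem hx hy hψ (by omega) h)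

theorem grL_cls (hx : x.Flat) (hy : y.Flat) {a : P.Hom x y}
    {ψ : BC x X.K ≃ₗ[R'] BC y X.K} (hψ : ψ ∈ X.L a) {j : ℕ} (hj : 1 ≤ j)
    {φ : BC x X.K →ₗ[R'] BC x X.K} (hφ : φ ∈ DDx X.DD x j) :
    grL hx hy hψ hj (cls X.DD x j φ) = cls X.DD y j (cjg ψ φ) :=
  cj_cls ψ _ _ _ _ _ hφ

/-- the class of the conjugate does not depend on the lift. -/
theorem cls_cjg_eq (hx : x.Flat) (hy : y.Flat) {a : P.Hom x y}
    {ψ ψ' : BC x X.K ≃ₗ[R'] BC y X.K} (hψ : ψ ∈ X.L a) (hψ' : ψ' ∈ X.L a) {j : ℕ} (hj : 1 ≤ j)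
    {φ : BC x X.K →ₗ[R'] BC x X.K} (hφ : φ ∈ DDx X.DD x j) :
    cls X.DD y j (cjg ψ φ) = cls X.DD y j (cjg ψ' φ) := by
  -- `χ = ψ ψ'⁻¹`
  have hχ : ψ.trans ψ'.symm ∈ X.L (P.id x) := by
    rw [← P.comp_inv a]
    exact X.L_comp a (P.inv a) hx hy hx ψ hψ _ (X.L_inv a hx hy ψ' hψ')
  obtain ⟨T, hT, hTv⟩ := (X.L_one x _ hx).1 hχ
  rw [DDx_eq] at hT
  have hφ' : cjg (ψ.trans ψ'.symm) φ ∈ DDx X.DD x j := conj_mem hx hx hχ hj hφ
  have h1 : cjg ψ φ = cjg ψ' (cjg (ψ.trans ψ'.symm) φ) := by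
    ext v
    simp [cjg_apply]
  have h2 : cls X.DD x j (cjg (ψ.trans ψ'.symm) φ) = cls X.DD x j φ := by
    refine cls_congr (inj_opr hx hj) (X.DD_succ j) hφ' hφ ?_
    have h3 : cjg (ψ.trans ψ'.symm) φ - φ = T ∘ₗ φ - cjg (ψ.trans ψ'.symm) φ ∘ₗ T := by
      ext v
      have h4 : cjg (ψ.trans ψ'.symm) φ ((ψ.trans ψ'.symm) v) = (ψ.trans ψ'.symm) (φ v) := by
        rw [cjg_apply, LinearEquiv.symm_apply_apply]
      rw [hTv, hTv, map_add] at h4
      simp only [LinearMap.sub_apply, LinearMap.comp_apply]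
      rw [sub_eq_sub_iff_add_eq_add, h4]
      abel
    rw [h3]
    refine sub_mem ?_ ?_
    · have := DDx_mul (DD := X.DD) (x := x) (fun a ha b hb => X.DD_mul 1 j a ha b hb) hT hφ
      rwa [add_comm] at this
    · exact DDx_mul (DD := X.DD) (x := x) (fun a ha b hb => X.DD_mul j 1 a ha b hb) hφ' hT
  rw [h1, ← grL_cls hx hy hψ' hj hφ', h2, grL_cls hx hy hψ' hj hφ]

/-- **the action of an arrow on `gr^j DD`.** -/
noncomputable def grAct (hx : x.Flat) (hy : y.Flat) (a : P.Hom x y) {j : ℕ} (hj : 1 ≤ j) :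
    BC x (grD X.toOpCpx j) ≃ₗ[R'] BC y (grD X.toOpCpx j) :=
  LinearEquiv.ofLinearMap (grL hx hy (X.L_ne a hx hy).choose_spec hj)
    (grL hy hx (X.L_inv a hx hy _ (X.L_ne a hx hy).choose_spec) hj)
    (by
      ext c
      obtain ⟨φ, hφ, rfl⟩ := cls_surj (inj_opr hy hj) c
      rw [LinearMap.comp_apply, grL_cls hy hx _ hj hφ,
        grL_cls hx hy _ hj (conj_mem hy hx (X.L_inv a hx hy _ (X.L_ne a hx hy).choose_spec) hj hφ)]
      congr 1
      exact cjg_symm (LinearEquiv.symm _) φ)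
    (by
      ext c
      obtain ⟨φ, hφ, rfl⟩ := cls_surj (inj_opr hx hj) c
      rw [LinearMap.comp_apply, grL_cls hx hy _ hj hφ,
        grL_cls hy hx _ hj (conj_mem hx hy (X.L_ne a hx hy).choose_spec hj hφ), cjg_symm]
      rfl)

theorem grAct_cls (hx : x.Flat) (hy : y.Flat) {a : P.Hom x y} {j : ℕ} (hj : 1 ≤ j)
    {ψ : BC x X.K ≃ₗ[R'] BC y X.K} (hψ : ψ ∈ X.L a)
    {φ : BC x X.K →ₗ[R'] BC x X.K} (hφ : φ ∈ DDx X.DD x j) :
    grAct hx hy a hj (cls X.DD x j φ) = cls X.DD y j (cjg ψ φ) :=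
  (grL_cls hx hy (X.L_ne a hx hy).choose_spec hj hφ).trans (cls_cjg_eq hx hy (X.L_ne a hx hy).choose_spec hψ hj hφ)

theorem refl_mem (hx : x.Flat) : LinearEquiv.refl R' (BC x X.K) ∈ X.L (P.id x) :=
  (X.L_one x _ hx).2 ⟨0, zero_mem _, fun v => by simp⟩

theorem grAct_id (hx : x.Flat) {j : ℕ} (hj : 1 ≤ j) :
    grAct (X := X) hx hx (P.id x) hj = LinearEquiv.refl R' _ := by
  ext c
  obtain ⟨φ, hφ, rfl⟩ := cls_surj (inj_opr hx hj) c
  rw [grAct_cls hx hx hj (refl_mem hx) hφ]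
  rfl

theorem grAct_comp (hx : x.Flat) (hy : y.Flat) (hz : z.Flat) (a : P.Hom x y) (b : P.Hom y z)
    {j : ℕ} (hj : 1 ≤ j) :
    grAct (X := X) hx hz (P.comp a b) hj = (grAct hx hy a hj).trans (grAct hy hz b hj) := by
  ext c
  obtain ⟨φ, hφ, rfl⟩ := cls_surj (inj_opr hx hj) c
  obtain ⟨ψ, hψ⟩ := X.L_ne a hx hy
  obtain ⟨χ, hχ⟩ := X.L_ne b hy hz
  rw [LinearEquiv.trans_apply, grAct_cls hx hy hj hψ hφ,
    grAct_cls hy hz hj hχ (conj_mem hx hy hψ hj hφ),
    grAct_cls hx hz hj (X.L_comp a b hx hy hz ψ hψ χ hχ) hφ]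
  rfl

theorem grAct_pull {R'' : Type u} [CommRing R''] (f : R' →+* R'') {x' y' : R →+* R''}
    (hfx : f.comp x = x') (hfy : f.comp y = y') (hx : x.Flat) (hy : y.Flat) (hx' : x'.Flat)
    (hy' : y'.Flat) (a : P.Hom x y) {j : ℕ} (hj : 1 ≤ j) :
    grAct (X := X) hx' hy' (P.pull f hfx hfy a) hj = BC.pullE f hfx hfy (grAct hx hy a hj) := by
  apply LinearEquiv.toLinearMap_injective
  refine BC.hom_ext_tr hfx fun c => ?_
  obtain ⟨φ, hφ, rfl⟩ := cls_surj (inj_opr hx hj) c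
  obtain ⟨ψ, hψ⟩ := X.L_ne a hx hy
  rw [← cls_pull hfx (inj_opr hx hj) (inj_opr hx' hj) hφ]
  change grAct hx' hy' (P.pull f hfx hfy a) hj (cls X.DD x' j _) = _
  rw [grAct_cls hx' hy' hj (X.L_pull f hfx hfy a hx hy hx' hy' ψ hψ) (pull_mem hfx hφ),
    ← pull_cjg, cls_pull hfy (inj_opr hy hj) (inj_opr hy' hj) (conj_mem hx hy hψ hj hφ),
    ← grAct_cls hx hy hj hψ hφ, cls_pull hfx (inj_opr hx hj) (inj_opr hx' hj) hφ]
  exact (BC.pullE_tr hfx hfy (grAct hx hy a hj) (cls X.DD x j φ)).symm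

theorem grAct_tr {R'' : Type u} [CommRing R''] (f : R' →+* R'') {x' y' : R →+* R''}
    (hfx : f.comp x = x') (hfy : f.comp y = y') (hx : x.Flat) (hy : y.Flat) (hx' : x'.Flat)
    (hy' : y'.Flat) (a : P.Hom x y) {j : ℕ} (hj : 1 ≤ j) (c : BC x (grD X.toOpCpx j)) :
    grAct (X := X) hx' hy' (P.pull f hfx hfy a) hj (BC.tr f hfx c) =
      BC.tr f hfy (grAct hx hy a hj c) := by
  rw [grAct_pull f hfx hfy hx hy hx' hy', BC.pullE_tr]

/-- **semilinearity over `D`.** -/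
theorem grAct_smul (hx : x.Flat) (hy : y.Flat) (a : P.Hom x y) {j : ℕ} (hj : 1 ≤ j)
    (d : BC x X.D) (c : BC x (grD X.toOpCpx j)) :
    grAct hx hy a hj (dmul X.toOpCpx x j d c) =
      dmul X.toOpCpx y j (X.eta.act a d) (grAct hx hy a hj c) := by
  obtain ⟨φ, hφ, rfl⟩ := cls_surj (inj_opr hx hj) c
  obtain ⟨ψ, hψ⟩ := X.L_ne a hx hy
  have hs : ∀ (t : R →+* R'), Function.Surjective (X.πx t) := fun t =>
    BC.map_surjective (x := t) (g := X.π.toLinearMap) X.π_surj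
  obtain ⟨q, rfl⟩ := hs x d
  obtain ⟨q', hq'⟩ := hs y (X.eta.act a (X.πx x q))
  have hc := conj_mem hx hy hψ hj hφ
  rw [← hq', ← cls_actQ hx hj q hφ, grAct_cls hx hy hj hψ (actQ_mem q hφ),
    grAct_cls hx hy hj hψ hφ, ← cls_actQ hy hj q' hc]
  refine cls_congr (inj_opr hy hj) (X.DD_succ j)
    (conj_mem hx hy hψ hj (actQ_mem q hφ)) (actQ_mem q' hc) ?_
  have := X.L_semD a hx hy ψ hψ j hj q q' hq'.symm φ (by rw [DDx_eq]; exact hφ)
  rw [DDx_eq] at this
  exact this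

end AlgPkg

end Groth.Agent.ResProp.EF.K698
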