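import Mathlib

/-!
# Gluing along a groupoid inside a filtered torsor (S16912, section 5, helper60's variant)

Everything is written in the `NF` convention: the object `n` has the vertices `Fin (n+1)`, and a
map `a : Fin (m+1) → Fin (n+1)` is a base change.  `NGpd` is a "cosimplicial groupoid" over a
group `Hg` with a finite filtration of its kernel by normal subgroups.

* `NGpd.glue`: if `H²(Q w) = 0` for all `w`, there is a section satisfying the cocycle identity;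
* `NGpd.lift`: if `H¹(Q w) = 0` for all `w`, every `h` lifts to an equivariant automorphism;
* `NGpd.lift_filtered`: every invariant class of `Q w` comes from an invariant element of `G w`.
-/

namespace Groth.Agent.ResProp.EF.K698

universe u v w

/-- the map `Fin 1 → α` with value `i`. -/
def e1 {α : Type*} (i : α) : Fin 1 → α := fun _ => i

/-- the map `Fin 2 → α` with values `i, j`. -/
def e2 {α : Type*} (i j : α) : Fin 2 → α
  | 0 => i
  | 1 => j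

/-- the map `Fin 3 → α` with values `i, j, l`. -/
def e3 {α : Type*} (i j l : α) : Fin 3 → α
  | 0 => i
  | 1 => j
  | 2 => l

theorem comp_e1 {α β : Type*} (f : α → β) (i : α) : f ∘ e1 i = e1 (f i) := rfl

theorem comp_e2 {α β : Type*} (f : α → β) (i j : α) : f ∘ e2 i j = e2 (f i) (f j) := by
  funext t; fin_cases t <;> rfl

theorem comp_e3 {α β : Type*} (f : α → β) (i j l : α) :
    f ∘ e3 i j l = e3 (f i) (f j) (f l) := by
  funext t; fin_cases t <;> rfl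

/-- A cosimplicial groupoid with vertices over a group `Hg`. -/
structure NGpd (Hg : Type v) [Group Hg] where
  Hom : (n : ℕ) → Fin (n + 1) → Fin (n + 1) → Type u
  one : ∀ {n : ℕ} (i : Fin (n + 1)), Hom n i i
  mul : ∀ {n : ℕ} {i j l : Fin (n + 1)}, Hom n i j → Hom n j l → Hom n i l
  inv : ∀ {n : ℕ} {i j : Fin (n + 1)}, Hom n i j → Hom n j i
  mul_assoc : ∀ {n : ℕ} {i j l m : Fin (n + 1)} (x : Hom n i j) (y : Hom n j l) (z : Hom n l m),
    mul (mul x y) z = mul x (mul y z)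
  one_mul : ∀ {n : ℕ} {i j : Fin (n + 1)} (x : Hom n i j), mul (one i) x = x
  mul_one : ∀ {n : ℕ} {i j : Fin (n + 1)} (x : Hom n i j), mul x (one j) = x
  inv_mul : ∀ {n : ℕ} {i j : Fin (n + 1)} (x : Hom n i j), mul (inv x) x = one j
  mul_inv : ∀ {n : ℕ} {i j : Fin (n + 1)} (x : Hom n i j), mul x (inv x) = one i
  map : ∀ {m n : ℕ} (a : Fin (m + 1) → Fin (n + 1)) {i j : Fin (m + 1)},
    Hom m i j → Hom n (a i) (a j)
  map_mul : ∀ {m n : ℕ} (a : Fin (m + 1) → Fin (n + 1)) {i j l : Fin (m + 1)}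
    (x : Hom m i j) (y : Hom m j l), map a (mul x y) = mul (map a x) (map a y)
  map_map : ∀ {l m n : ℕ} (b : Fin (m + 1) → Fin (n + 1)) (a : Fin (l + 1) → Fin (m + 1))
    {i j : Fin (l + 1)} (x : Hom l i j), map b (map a x) = map (b ∘ a) x
  map_id : ∀ {n : ℕ} {i j : Fin (n + 1)} (x : Hom n i j), map id x = x
  pi : ∀ {n : ℕ} {i j : Fin (n + 1)}, Hom n i j → Hg
  pi_mul : ∀ {n : ℕ} {i j l : Fin (n + 1)} (x : Hom n i j) (y : Hom n j l),
    pi (mul x y) = pi x * pi y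
  pi_map : ∀ {m n : ℕ} (a : Fin (m + 1) → Fin (n + 1)) {i j : Fin (m + 1)} (x : Hom m i j),
    pi (map a x) = pi x

namespace NGpd

variable {Hg : Type v} [Group Hg] (N : NGpd.{u} Hg)

variable {N}

theorem pi_one {n : ℕ} (i : Fin (n + 1)) : N.pi (N.one i) = 1 := by
  have h := N.pi_mul (N.one i) (N.one i)
  rw [N.one_mul] at h
  exact (left_eq_mul.mp h)

theorem pi_inv {n : ℕ} {i j : Fin (n + 1)} (x : N.Hom n i j) : N.pi (N.inv x) = (N.pi x)⁻¹ := by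
  have h := N.pi_mul (N.inv x) x
  rw [N.inv_mul, pi_one] at h
  exact eq_inv_of_mul_eq_one_left h.symm

theorem inv_mul_cancel_left {n : ℕ} {i j l : Fin (n + 1)} (x : N.Hom n i j) (y : N.Hom n j l) :
    N.mul (N.inv x) (N.mul x y) = y := by
  rw [← N.mul_assoc, N.inv_mul, N.one_mul]

theorem mul_inv_cancel_left {n : ℕ} {i j l : Fin (n + 1)} (x : N.Hom n i j) (y : N.Hom n i l) :
    N.mul x (N.mul (N.inv x) y) = y := by
  rw [← N.mul_assoc, N.mul_inv, N.one_mul]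

theorem mul_left_cancel {n : ℕ} {i j l : Fin (n + 1)} (x : N.Hom n i j) {y z : N.Hom n j l}
    (h : N.mul x y = N.mul x z) : y = z := by
  rw [← inv_mul_cancel_left x y, h, inv_mul_cancel_left]

theorem mul_right_cancel {n : ℕ} {i j l : Fin (n + 1)} (x : N.Hom n j l) {y z : N.Hom n i j}
    (h : N.mul y x = N.mul z x) : y = z := by
  have := congrArg (fun t => N.mul t (N.inv x)) h
  simpa only [N.mul_assoc, N.mul_inv, N.mul_one] using this

theorem inv_eq_of_mul_eq_one {n : ℕ} {i j : Fin (n + 1)} (x : N.Hom n i j) (y : N.Hom n j i)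
    (h : N.mul x y = N.one i) : y = N.inv x := by
  apply mul_left_cancel x
  rw [h, N.mul_inv]

theorem mul_inv_rev {n : ℕ} {i j l : Fin (n + 1)} (x : N.Hom n i j) (y : N.Hom n j l) :
    N.inv (N.mul x y) = N.mul (N.inv y) (N.inv x) := by
  symm
  apply inv_eq_of_mul_eq_one
  rw [N.mul_assoc, mul_inv_cancel_left, N.mul_inv]

theorem map_one {m n : ℕ} (a : Fin (m + 1) → Fin (n + 1)) (i : Fin (m + 1)) :
    N.map a (N.one i) = N.one (a i) := by
  apply mul_left_cancel (N.map a (N.one i))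
  rw [← N.map_mul, N.one_mul, N.mul_one]

theorem map_inv {m n : ℕ} (a : Fin (m + 1) → Fin (n + 1)) {i j : Fin (m + 1)} (x : N.Hom m i j) :
    N.map a (N.inv x) = N.inv (N.map a x) := by
  apply inv_eq_of_mul_eq_one
  rw [← N.map_mul, N.mul_inv, map_one]

theorem inv_inv {n : ℕ} {i j : Fin (n + 1)} (x : N.Hom n i j) : N.inv (N.inv x) = x := by
  symm; apply inv_eq_of_mul_eq_one; rw [N.inv_mul]

theorem map_congr {m n : ℕ} {a a' : Fin (m + 1) → Fin (n + 1)} (h : a = a') {i j : Fin (m + 1)}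
    (x : N.Hom m i j) : HEq (N.map a x) (N.map a' x) := by
  subst h; rfl

/-- the restriction of `x : Hom 1 0 1` to the edge `i, j`. -/
def ed (x : N.Hom 1 0 1) {n : ℕ} (i j : Fin (n + 1)) : N.Hom n i j := N.map (e2 i j) x

theorem map_ed (x : N.Hom 1 0 1) {m n : ℕ} (a : Fin (m + 1) → Fin (n + 1)) (i j : Fin (m + 1)) :
    N.map a (ed x i j) = ed x (a i) (a j) := by
  refine Eq.trans (N.map_map a (e2 i j) x) ?_
  exact eq_of_heq (map_congr (comp_e2 a i j) x)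

theorem ed_self (x : N.Hom 1 0 1) : ed x (0 : Fin 2) 1 = x := by
  have h : (e2 (0 : Fin 2) 1) = id := by funext t; fin_cases t <;> rfl
  exact (eq_of_heq (map_congr h x)).trans (N.map_id x)

theorem pi_ed (x : N.Hom 1 0 1) {n : ℕ} (i j : Fin (n + 1)) : N.pi (ed x i j) = N.pi x :=
  N.pi_map (e2 i j) x

/-- the restriction of `g : Hom 1 0 0` to the edge `i, j`. -/
def edg (x : N.Hom 1 0 0) {n : ℕ} (i j : Fin (n + 1)) : N.Hom n i i := N.map (e2 i j) x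

theorem map_edg (x : N.Hom 1 0 0) {m n : ℕ} (a : Fin (m + 1) → Fin (n + 1)) (i j : Fin (m + 1)) :
    N.map a (edg x i j) = edg x (a i) (a j) := by
  refine Eq.trans (N.map_map a (e2 i j) x) ?_
  exact eq_of_heq (map_congr (comp_e2 a i j) x)

/-- the restriction of `s : Hom 0 0 0` to the vertex `i`. -/
def vt (x : N.Hom 0 0 0) {n : ℕ} (i : Fin (n + 1)) : N.Hom n i i := N.map (e1 i) x

theorem map_vt (x : N.Hom 0 0 0) {m n : ℕ} (a : Fin (m + 1) → Fin (n + 1)) (i : Fin (m + 1)) :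
    N.map a (vt x i) = vt x (a i) :=
  N.map_map a (e1 i) x

theorem pi_vt (s : N.Hom 0 0 0) {n : ℕ} (i : Fin (n + 1)) : N.pi (vt s i) = N.pi s :=
  N.pi_map (e1 i) s

/-- the obstruction `D_{ijl} = x_{ij} x_{jl} x_{il}⁻¹`. -/
def D (x : N.Hom 1 0 1) {n : ℕ} (i j l : Fin (n + 1)) : N.Hom n i i :=
  N.mul (N.mul (ed x i j) (ed x j l)) (N.inv (ed x i l))

theorem map_D (x : N.Hom 1 0 1) {m n : ℕ} (a : Fin (m + 1) → Fin (n + 1))
    (i j l : Fin (m + 1)) : N.map a (D x i j l) = D x (a i) (a j) (a l) := by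
  unfold D
  rw [N.map_mul, N.map_mul, map_inv, map_ed, map_ed, map_ed]

theorem D_identity (x : N.Hom 1 0 1) {n : ℕ} (i j l m : Fin (n + 1)) :
    N.mul (D x i j l) (D x i l m) =
      N.mul (N.mul (N.mul (ed x i j) (D x j l m)) (N.inv (ed x i j))) (D x i j m) := by
  unfold D
  simp only [N.mul_assoc, inv_mul_cancel_left]

/-- the obstruction `E_{ij} = s_i x_{ij} s_j⁻¹ x_{ij}⁻¹`. -/
def E (x : N.Hom 1 0 1) (s : N.Hom 0 0 0) {n : ℕ} (i j : Fin (n + 1)) : N.Hom n i i :=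
  N.mul (N.mul (vt s i) (ed x i j)) (N.mul (N.inv (vt s j)) (N.inv (ed x i j)))

theorem map_E (x : N.Hom 1 0 1) (s : N.Hom 0 0 0) {m n : ℕ} (a : Fin (m + 1) → Fin (n + 1))
    (i j : Fin (m + 1)) : N.map a (E x s i j) = E x s (a i) (a j) := by
  unfold E
  rw [N.map_mul, N.map_mul, N.map_mul, map_inv, map_inv, map_ed, map_vt, map_vt]

theorem E_identity (x : N.Hom 1 0 1) (s : N.Hom 0 0 0) {n : ℕ} (i j l : Fin (n + 1))
    (h : N.mul (ed x i j) (ed x j l) = ed x i l) :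
    N.mul (E x s i j) (N.mul (N.mul (ed x i j) (E x s j l)) (N.inv (ed x i j))) = E x s i l := by
  unfold E
  rw [← h]
  simp only [N.mul_assoc, inv_mul_cancel_left, mul_inv_rev]

theorem ed_mul (b : N.Hom 1 0 0) (x : N.Hom 1 0 1) {n : ℕ} (i j : Fin (n + 1)) :
    ed (N.mul b x) i j = N.mul (edg b i j) (ed x i j) :=
  N.map_mul (e2 i j) b x

theorem vt_mul (g s : N.Hom 0 0 0) {n : ℕ} (i : Fin (n + 1)) :
    vt (N.mul g s) i = N.mul (vt g i) (vt s i) :=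
  N.map_mul (e1 i) g s

theorem D_mul (b : N.Hom 1 0 0) (x : N.Hom 1 0 1) {n : ℕ} (i j l : Fin (n + 1)) :
    D (N.mul b x) i j l =
      N.mul (N.mul (N.mul (edg b i j) (N.mul (N.mul (ed x i j) (edg b j l))
        (N.inv (ed x i j)))) (D x i j l)) (N.inv (edg b i l)) := by
  unfold D
  simp only [ed_mul, N.mul_assoc, inv_mul_cancel_left, mul_inv_rev]

theorem E_mul (x : N.Hom 1 0 1) (g s : N.Hom 0 0 0) {n : ℕ} (i j : Fin (n + 1)) :
    E x (N.mul g s) i j =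
      N.mul (N.mul (vt g i) (E x s i j)) (N.mul (N.mul (ed x i j) (N.inv (vt g j)))
        (N.inv (ed x i j))) := by
  unfold E
  simp only [vt_mul, N.mul_assoc, inv_mul_cancel_left, mul_inv_rev]

end NGpd

/-- A finite filtration (index `w` stands for `1 + DD^(w+1)`) of the kernel of `pi` with abelian
graded pieces. -/
structure Filt {Hg : Type v} [Group Hg] (N : NGpd.{u} Hg) where
  k : ℕ
  G : ℕ → ∀ {n : ℕ} {i : Fin (n + 1)}, Set (N.Hom n i i)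
  G_one : ∀ (w : ℕ) {n : ℕ} (i : Fin (n + 1)), N.one i ∈ G w
  G_mul : ∀ {w : ℕ} {n : ℕ} {i : Fin (n + 1)} {x y : N.Hom n i i},
    x ∈ G w → y ∈ G w → N.mul x y ∈ G w
  G_inv : ∀ {w : ℕ} {n : ℕ} {i : Fin (n + 1)} {x : N.Hom n i i}, x ∈ G w → N.inv x ∈ G w
  G_map : ∀ {w : ℕ} {m n : ℕ} (a : Fin (m + 1) → Fin (n + 1)) {i : Fin (m + 1)}
    {x : N.Hom m i i}, x ∈ G w → N.map a x ∈ G w
  G_conj : ∀ {w : ℕ} {n : ℕ} {i j : Fin (n + 1)} (x : N.Hom n i j) {g : N.Hom n j j},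
    g ∈ G w → N.mul (N.mul x g) (N.inv x) ∈ G w
  G_ker : ∀ {n : ℕ} {i : Fin (n + 1)} {x : N.Hom n i i}, x ∈ G 0 ↔ N.pi x = 1
  G_anti : ∀ {w : ℕ} {n : ℕ} {i : Fin (n + 1)} {x : N.Hom n i i}, x ∈ G (w + 1) → x ∈ G w
  G_top : ∀ {n : ℕ} {i : Fin (n + 1)} {x : N.Hom n i i}, x ∈ G k → x = N.one i
  Q : ℕ → (n : ℕ) → Fin (n + 1) → Type w
  [grp : ∀ (w n : ℕ) (i : Fin (n + 1)), AddCommGroup (Q w n i)]
  q : ∀ (w : ℕ) {n : ℕ} {i : Fin (n + 1)}, N.Hom n i i → Q w n i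
  q_mul : ∀ {w n : ℕ} {i : Fin (n + 1)} {x y : N.Hom n i i}, x ∈ G w → y ∈ G w →
    q w (N.mul x y) = q w x + q w y
  q_eq_zero : ∀ {w n : ℕ} {i : Fin (n + 1)} {x : N.Hom n i i}, x ∈ G w →
    (q w x = 0 → x ∈ G (w + 1))
  q_zero_of : ∀ {w n : ℕ} {i : Fin (n + 1)} {x : N.Hom n i i}, x ∈ G (w + 1) → q w x = 0
  q_surj : ∀ {w n : ℕ} {i : Fin (n + 1)} (c : Q w n i), ∃ x : N.Hom n i i, x ∈ G w ∧ q w x = c
  qm : ∀ (w : ℕ) {m n : ℕ} (a : Fin (m + 1) → Fin (n + 1)) (i : Fin (m + 1)),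
    Q w m i →+ Q w n (a i)
  q_map : ∀ {w m n : ℕ} (a : Fin (m + 1) → Fin (n + 1)) {i : Fin (m + 1)} {x : N.Hom m i i},
    x ∈ G w → q w (N.map a x) = qm w a i (q w x)
  tr : ∀ (w : ℕ) {n : ℕ} {i j : Fin (n + 1)}, N.Hom n i j → (Q w n j →+ Q w n i)
  q_conj : ∀ {w n : ℕ} {i j : Fin (n + 1)} (x : N.Hom n i j) {g : N.Hom n j j}, g ∈ G w →
    q w (N.mul (N.mul x g) (N.inv x)) = tr w x (q w g)
  tr_congr : ∀ {w n : ℕ} {i j : Fin (n + 1)} {x y : N.Hom n i j}, N.pi x = N.pi y →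
    tr w x = tr w y

attribute [instance] Filt.grp

namespace Filt

open NGpd

variable {Hg : Type v} [Group Hg] {N : NGpd.{u} Hg} (F : Filt.{u, v, w} N)

/-- the restriction of `c` to the vertex `i`. -/
def q1 {w : ℕ} (c : F.Q w 0 0) {n : ℕ} (i : Fin (n + 1)) : F.Q w n i := F.qm w (e1 i) 0 c

/-- the restriction of `c` to the edge `i, j`. -/
def q2 {w : ℕ} (c : F.Q w 1 0) {n : ℕ} (i j : Fin (n + 1)) : F.Q w n i := F.qm w (e2 i j) 0 c

/-- the restriction of `c` to the triangle `i, j, l`. -/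
def q3 {w : ℕ} (c : F.Q w 2 0) {n : ℕ} (i j l : Fin (n + 1)) : F.Q w n i :=
  F.qm w (e3 i j l) 0 c

/-- `H¹ = 0` for the graded pieces, for the transport by `x`. -/
def H1 (x : N.Hom 1 0 1) (w : ℕ) : Prop :=
  ∀ c : F.Q w 1 0, F.q2 c (0 : Fin 3) 1 + F.tr w (ed x (0 : Fin 3) 1) (F.q2 c 1 2) =
    F.q2 c 0 2 → ∃ b : F.Q w 0 0, F.q1 b (0 : Fin 2) - F.tr w x (F.q1 b 1) = c

/-- `H² = 0` for the graded pieces, for the transport by `x`. -/
def H2 (x : N.Hom 1 0 1) (w : ℕ) : Prop :=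
  ∀ c : F.Q w 2 0, F.q3 c (0 : Fin 4) 1 2 + F.q3 c 0 2 3 =
      F.tr w (ed x (0 : Fin 4) 1) (F.q3 c 1 2 3) + F.q3 c 0 1 3 →
    ∃ b : F.Q w 1 0, F.q2 b (0 : Fin 3) 1 + F.tr w (ed x (0 : Fin 3) 1) (F.q2 b 1 2)
      - F.q2 b 0 2 = c

variable {F}

theorem q_one (w : ℕ) {n : ℕ} (i : Fin (n + 1)) : F.q w (N.one i) = 0 := by
  have h := F.q_mul (F.G_one w i) (F.G_one w i)
  rw [N.one_mul] at h
  exact left_eq_add.mp h

theorem q_inv {w n : ℕ} {i : Fin (n + 1)} {x : N.Hom n i i} (hx : x ∈ F.G w) :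
    F.q w (N.inv x) = - F.q w x := by
  have h := F.q_mul (F.G_inv hx) hx
  rw [N.inv_mul, q_one] at h
  exact eq_neg_of_add_eq_zero_left h.symm

theorem q_ed {w : ℕ} {b : N.Hom 1 0 0} (hb : b ∈ F.G w) {n : ℕ} (i j : Fin (n + 1)) :
    F.q w (edg b i j) = F.q2 (F.q w b) i j :=
  F.q_map (e2 i j) hb

theorem q_vt {w : ℕ} {b : N.Hom 0 0 0} (hb : b ∈ F.G w) {n : ℕ} (i : Fin (n + 1)) :
    F.q w (vt b i) = F.q1 (F.q w b) i :=
  F.q_map (e1 i) hb

theorem q2_neg {w : ℕ} (b : F.Q w 1 0) {n : ℕ} (i j : Fin (n + 1)) :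
    F.q2 (-b) i j = - F.q2 b i j := map_neg _ _

theorem q1_neg {w : ℕ} (b : F.Q w 0 0) {n : ℕ} (i : Fin (n + 1)) :
    F.q1 (-b) i = - F.q1 b i := map_neg _ _

theorem edg_mem {w : ℕ} {b : N.Hom 1 0 0} (hb : b ∈ F.G w) {n : ℕ} (i j : Fin (n + 1)) :
    edg b i j ∈ F.G w := F.G_map (e2 i j) hb

theorem vt_mem {w : ℕ} {b : N.Hom 0 0 0} (hb : b ∈ F.G w) {n : ℕ} (i : Fin (n + 1)) :
    vt b i ∈ F.G w := F.G_map (e1 i) hb

variable (F)

theorem glue_step {w : ℕ} {x : N.Hom 1 0 1} (h2 : F.H2 x w)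
    (hD : D x (0 : Fin 3) 1 2 ∈ F.G w) :
    ∃ b : N.Hom 1 0 0, b ∈ F.G w ∧ D (N.mul b x) (0 : Fin 3) 1 2 ∈ F.G (w + 1) := by
  have hDm : ∀ {n : ℕ} (i j l : Fin (n + 1)), D x i j l ∈ F.G w := fun i j l => by
    have := F.G_map (e3 i j l) hD
    rw [map_D] at this
    exact this
  have hq : ∀ {n : ℕ} (i j l : Fin (n + 1)),
      F.q w (D x i j l) = F.q3 (F.q w (D x (0 : Fin 3) 1 2)) i j l := fun i j l => by
    have := F.q_map (e3 i j l) hD
    rw [map_D] at this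
    exact this
  obtain ⟨b, hb⟩ := h2 (F.q w (D x (0 : Fin 3) 1 2)) (by
    rw [← hq, ← hq, ← hq, ← hq, ← F.q_conj _ (hDm _ _ _), ← F.q_mul (hDm _ _ _) (hDm _ _ _),
      ← F.q_mul (F.G_conj _ (hDm _ _ _)) (hDm _ _ _), D_identity])
  obtain ⟨g, hg, hgb⟩ := F.q_surj (-b)
  refine ⟨g, hg, ?_⟩
  rw [D_mul]
  have m1 := edg_mem (F := F) hg (0 : Fin 3) 1
  have m2 := F.G_conj (ed x (0 : Fin 3) 1) (edg_mem (F := F) hg (1 : Fin 3) 2)
  have m3 := F.G_inv (edg_mem (F := F) hg (0 : Fin 3) 2)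
  refine F.q_eq_zero (F.G_mul (F.G_mul (F.G_mul m1 m2) hD) m3) ?_
  rw [F.q_mul (F.G_mul (F.G_mul m1 m2) hD) m3, F.q_mul (F.G_mul m1 m2) hD, F.q_mul m1 m2,
    F.q_conj _ (edg_mem hg _ _), q_inv (edg_mem hg _ _), q_ed hg, q_ed hg, q_ed hg, hgb, ← hb]
  simp only [q2_neg, map_neg]
  abel

theorem glue_aux (h2 : ∀ (x : N.Hom 1 0 1), N.pi x = 1 → ∀ w < F.k, F.H2 x w) :
    ∀ (m w : ℕ), w + m = F.k → ∀ x : N.Hom 1 0 1, N.pi x = 1 →
      D x (0 : Fin 3) 1 2 ∈ F.G w → ∃ y : N.Hom 1 0 1, N.pi y = 1 ∧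
        D y (0 : Fin 3) 1 2 ∈ F.G F.k := by
  intro m
  induction m with
  | zero =>
    intro w hw x hx hD
    have : w = F.k := by omega
    subst this
    exact ⟨x, hx, hD⟩
  | succ m ih =>
    intro w hw x hx hD
    obtain ⟨b, hb, hb'⟩ := F.glue_step (h2 x hx w (by omega)) hD
    have hb0 : ∀ w, b ∈ F.G w → N.pi b = 1 := by
      intro w
      induction w with
      | zero => exact fun h => F.G_ker.mp h
      | succ w ihw => exact fun h => ihw (F.G_anti h)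
    refine ih (w + 1) (by omega) (N.mul b x) ?_ hb'
    rw [N.pi_mul, hb0 w hb, hx, _root_.mul_one]

/-- **Gluing.**  If `H²` of the graded pieces vanishes, there is a section over `1 : Hg`
satisfying the cocycle identity. -/
theorem glue (x : N.Hom 1 0 1) (hx : N.pi x = 1)
    (h2 : ∀ (x : N.Hom 1 0 1), N.pi x = 1 → ∀ w < F.k, F.H2 x w) :
    ∃ y : N.Hom 1 0 1, N.pi y = 1 ∧
      N.mul (ed y (0 : Fin 3) 1) (ed y 1 2) = ed y 0 2 := by
  have hD : D x (0 : Fin 3) 1 2 ∈ F.G 0 := by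
    rw [F.G_ker]
    unfold D
    rw [N.pi_mul, N.pi_mul, NGpd.pi_inv, pi_ed, pi_ed, pi_ed, hx]
    simp
  obtain ⟨y, hy, hyD⟩ := F.glue_aux h2 F.k 0 (by omega) x hx hD
  refine ⟨y, hy, ?_⟩
  have h := F.G_top hyD
  unfold D at h
  apply NGpd.mul_right_cancel (N.inv (ed y (0 : Fin 3) 2))
  rw [h, N.mul_inv]

/-- the cocycle identity of a section on all simplices. -/
theorem cocycle {y : N.Hom 1 0 1} (h : N.mul (ed y (0 : Fin 3) 1) (ed y 1 2) = ed y 0 2)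
    {n : ℕ} (i j l : Fin (n + 1)) : N.mul (ed y i j) (ed y j l) = ed y i l := by
  have := congrArg (N.map (e3 i j l)) h
  rw [N.map_mul, map_ed, map_ed, map_ed] at this
  exact this

theorem lift_step {w : ℕ} {x : N.Hom 1 0 1}
    (hc : N.mul (ed x (0 : Fin 3) 1) (ed x 1 2) = ed x 0 2) (h1 : F.H1 x w)
    {s : N.Hom 0 0 0} (hE : E x s (0 : Fin 2) 1 ∈ F.G w) :
    ∃ g : N.Hom 0 0 0, g ∈ F.G w ∧ E x (N.mul g s) (0 : Fin 2) 1 ∈ F.G (w + 1) := by
  have hEm : ∀ {n : ℕ} (i j : Fin (n + 1)), E x s i j ∈ F.G w := fun i j => by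
    have := F.G_map (e2 i j) hE
    rw [map_E] at this
    exact this
  have hq : ∀ {n : ℕ} (i j : Fin (n + 1)),
      F.q w (E x s i j) = F.q2 (F.q w (E x s (0 : Fin 2) 1)) i j := fun i j => by
    have := F.q_map (e2 i j) hE
    rw [map_E] at this
    exact this
  obtain ⟨b, hb⟩ := h1 (F.q w (E x s (0 : Fin 2) 1)) (by
    rw [← hq, ← hq, ← hq, ← F.q_conj _ (hEm _ _), ← F.q_mul (hEm _ _) (F.G_conj _ (hEm _ _)),
      E_identity x s 0 1 2 hc])
  obtain ⟨g, hg, hgb⟩ := F.q_surj (-b)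
  refine ⟨g, hg, ?_⟩
  rw [E_mul]
  have m1 := vt_mem (F := F) hg (0 : Fin 2)
  have m2 := F.G_conj (ed x (0 : Fin 2) 1) (F.G_inv (vt_mem (F := F) hg (1 : Fin 2)))
  refine F.q_eq_zero (F.G_mul (F.G_mul m1 hE) m2) ?_
  rw [F.q_mul (F.G_mul m1 hE) m2, F.q_mul m1 hE, F.q_conj _ (F.G_inv (vt_mem hg _)),
    q_inv (vt_mem hg _), q_vt hg, q_vt hg, hgb, ← hb, ed_self]
  simp only [q1_neg, map_neg]
  abel

/-- elements of `Hom 0 0 0` commuting with the section. -/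
def Inv (x : N.Hom 1 0 1) (s : N.Hom 0 0 0) : Prop :=
  N.mul (vt s (0 : Fin 2)) x = N.mul x (vt s 1)

theorem inv_of_E {x : N.Hom 1 0 1} {s : N.Hom 0 0 0} (h : E x s (0 : Fin 2) 1 = N.one 0) :
    Inv x s := by
  unfold E at h
  rw [ed_self] at h
  apply NGpd.mul_right_cancel (N.mul (N.inv (vt s (1 : Fin 2))) (N.inv x))
  rw [h]
  simp only [N.mul_assoc, NGpd.mul_inv_cancel_left, N.mul_inv]

theorem E_of_inv {x : N.Hom 1 0 1} {s : N.Hom 0 0 0} (h : Inv x s) :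
    E x s (0 : Fin 2) 1 = N.one 0 := by
  unfold E
  rw [ed_self, h]
  simp only [N.mul_assoc, NGpd.mul_inv_cancel_left, N.mul_inv]

theorem lift_aux {x : N.Hom 1 0 1}
    (hc : N.mul (ed x (0 : Fin 3) 1) (ed x 1 2) = ed x 0 2) (h1 : ∀ w < F.k, F.H1 x w) :
    ∀ (m w : ℕ), w + m = F.k → ∀ s : N.Hom 0 0 0, E x s (0 : Fin 2) 1 ∈ F.G w →
      ∃ g : N.Hom 0 0 0, g ∈ F.G w ∧ Inv x (N.mul g s) := by
  intro m
  induction m with
  | zero =>
    intro w hw s hE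
    have : w = F.k := by omega
    subst this
    refine ⟨N.one 0, F.G_one _ _, ?_⟩
    rw [N.one_mul]
    exact inv_of_E (F.G_top hE)
  | succ m ih =>
    intro w hw s hE
    obtain ⟨g, hg, hg'⟩ := F.lift_step hc (h1 w (by omega)) hE
    obtain ⟨g', hg1, hg2⟩ := ih (w + 1) (by omega) (N.mul g s) hg'
    exact ⟨N.mul g' g, F.G_mul (F.G_anti hg1) hg, by rw [N.mul_assoc]; exact hg2⟩

theorem pi_of_mem {w : ℕ} {n : ℕ} {i : Fin (n + 1)} {x : N.Hom n i i} (h : x ∈ F.G w) :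
    N.pi x = 1 := by
  induction w with
  | zero => exact F.G_ker.mp h
  | succ w ihw => exact ihw (F.G_anti h)

/-- **Equivariant lifts.**  If `H¹` of the graded pieces vanishes, every `h` which has a lift has
an invariant lift. -/
theorem lift {x : N.Hom 1 0 1} (hx : N.pi x = 1)
    (hc : N.mul (ed x (0 : Fin 3) 1) (ed x 1 2) = ed x 0 2) (h1 : ∀ w < F.k, F.H1 x w)
    (s : N.Hom 0 0 0) : ∃ t : N.Hom 0 0 0, N.pi t = N.pi s ∧ Inv x t := by
  have hE : E x s (0 : Fin 2) 1 ∈ F.G 0 := by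
    rw [F.G_ker]
    unfold E
    rw [N.pi_mul, N.pi_mul, N.pi_mul, NGpd.pi_inv, NGpd.pi_inv, pi_ed, pi_vt, pi_vt, hx]
    simp
  obtain ⟨g, hg, hg'⟩ := F.lift_aux hc h1 F.k 0 (by omega) s hE
  exact ⟨N.mul g s, by rw [N.pi_mul, F.pi_of_mem hg, _root_.one_mul], hg'⟩

/-- **Invariant classes.**  Every invariant class of `Q w` is the class of an invariant element
of `G w`. -/
theorem lift_filtered {x : N.Hom 1 0 1}
    (hc : N.mul (ed x (0 : Fin 3) 1) (ed x 1 2) = ed x 0 2) (h1 : ∀ w < F.k, F.H1 x w)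
    {w : ℕ} (hw : w < F.k) (z : F.Q w 0 0) (hz : F.q1 z (0 : Fin 2) = F.tr w x (F.q1 z 1)) :
    ∃ t : N.Hom 0 0 0, t ∈ F.G w ∧ F.q w t = z ∧ Inv x t := by
  obtain ⟨s, hs, hsz⟩ := F.q_surj z
  have m1 := vt_mem (F := F) hs (0 : Fin 2)
  have m2 := F.G_conj (ed x (0 : Fin 2) 1) (F.G_inv (vt_mem (F := F) hs (1 : Fin 2)))
  have e : E x s (0 : Fin 2) 1 = N.mul (vt s 0) (N.mul (N.mul (ed x (0 : Fin 2) 1)
      (N.inv (vt s 1))) (N.inv (ed x (0 : Fin 2) 1))) := by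
    unfold E
    simp only [N.mul_assoc]
  have hE : E x s (0 : Fin 2) 1 ∈ F.G (w + 1) := by
    rw [e]
    refine F.q_eq_zero (F.G_mul m1 m2) ?_
    rw [F.q_mul m1 m2, F.q_conj _ (F.G_inv (vt_mem hs _)), q_inv (vt_mem hs _), q_vt hs,
      q_vt hs, hsz, ed_self, map_neg, hz, add_neg_cancel]
  obtain ⟨g, hg, hg'⟩ := F.lift_aux hc h1 (F.k - (w + 1)) (w + 1) (by omega) s hE
  refine ⟨N.mul g s, F.G_mul (F.G_anti hg) hs, ?_, hg'⟩
  rw [F.q_mul (F.G_anti hg) hs, hsz]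
  have : F.q w g = 0 := F.q_zero_of hg
  rw [this]
  exact zero_add z

end Filt

end Groth.Agent.ResProp.EF.K698
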