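import Groth.Agent.ResProp.EF.K980.BC
import Mathlib.Algebra.Module.Submodule.Map
import Mathlib.LinearAlgebra.Quotient.Basic

/-!
# Base change of filtered operators (AD1)

`DD : ℕ → Submodule R (K →ₗ[R] K)`, `opr x j : BC x (DD j) → End (BC x K)`, `gr j = DD j / DD (j+1)`,
`cls x j : End (BC x K) → BC x (gr j)` (the class, meaningful on the range of `opr x j`), and the transport `cj ψ` of
classes by conjugation with an isomorphism.
-/

set_option autoImplicit false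

universe u v w

open Groth.Agent.ResProp.EF.K980

namespace Groth.Agent.ResProp.EF.K698

section

variable {R : Type u} [CommRing R] {K : Type w} [AddCommGroup K] [Module R K]
  (DD : ℕ → Submodule R (K →ₗ[R] K))
variable {R' : Type v} [CommRing R'] (x : R →+* R')

/-- base changed operators -/
noncomputable def opr (j : ℕ) : BC x (DD j) →ₗ[R'] (BC x K →ₗ[R'] BC x K) :=
  BC.emb x ∘ₗ BC.map x (DD j).subtype

/-- the base changed operators of weight `≥ j` -/
noncomputable def DDx (j : ℕ) : Submodule R' (BC x K →ₗ[R'] BC x K) := LinearMap.range (opr DD x j)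

/-- the graded pieces -/
abbrev gr (j : ℕ) : Type w := DD j ⧸ (DD (j + 1)).submoduleOf (DD j)

variable {DD} {x}

theorem opr_bc (j : ℕ) (d : DD j) : opr DD x j (bc x d) = BC.map x (d : K →ₗ[R] K) := by
  simp [opr]

theorem opr_anti {j : ℕ} (h : DD (j + 1) ≤ DD j) (d : BC x (DD (j + 1))) :
    opr DD x j (BC.map x (Submodule.inclusion h) d) = opr DD x (j + 1) d := by
  simp only [opr, LinearMap.comp_apply, BC.map_map]
  rfl

theorem DDx_anti {j : ℕ} (h : DD (j + 1) ≤ DD j) : DDx DD x (j + 1) ≤ DDx DD x j := by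
  rintro _ ⟨d, rfl⟩
  exact ⟨_, opr_anti h d⟩

theorem DDx_mul {i j : ℕ} (h : ∀ a ∈ DD i, ∀ b ∈ DD j, a ∘ₗ b ∈ DD (i + j))
    {φ φ' : BC x K →ₗ[R'] BC x K} (hφ : φ ∈ DDx DD x i) (hφ' : φ' ∈ DDx DD x j) :
    φ ∘ₗ φ' ∈ DDx DD x (i + j) := by
  obtain ⟨d, rfl⟩ := hφ
  obtain ⟨d', rfl⟩ := hφ'
  induction d using BC.ind with
  | h0 => rw [map_zero, LinearMap.zero_comp]; exact zero_mem _
  | h1 r a =>
    rw [map_smul, LinearMap.smul_comp]
    refine Submodule.smul_mem _ _ ?_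
    induction d' using BC.ind with
    | h0 => rw [map_zero, LinearMap.comp_zero]; exact zero_mem _
    | h1 r' b =>
      rw [map_smul, LinearMap.comp_smul]
      refine Submodule.smul_mem _ _ ⟨bc x ⟨(a : K →ₗ[R] K) ∘ₗ (b : K →ₗ[R] K), h _ a.2 _ b.2⟩, ?_⟩
      rw [opr_bc, opr_bc, opr_bc, BC.map_comp]
    | h2 p q hp hq => rw [map_add, LinearMap.comp_add]; exact add_mem hp hq
  | h2 p q hp hq => rw [map_add, LinearMap.add_comp]; exact add_mem hp hq

variable (DD x) in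
/-- the class of an operator in the graded piece -/
noncomputable def cls (j : ℕ) (φ : BC x K →ₗ[R'] BC x K) : BC x (gr DD j) := by
  classical
  exact if h : ∃ d, opr DD x j d = φ then BC.map x (Submodule.mkQ _) h.choose else 0

theorem cls_opr {j : ℕ} (hinj : Function.Injective (opr DD x j)) (d : BC x (DD j)) :
    cls DD x j (opr DD x j d) = BC.map x (Submodule.mkQ _) d := by
  classical
  have h : ∃ d', opr DD x j d' = opr DD x j d := ⟨d, rfl⟩
  rw [cls, dif_pos h, hinj h.choose_spec]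

theorem cls_add {j : ℕ} (hinj : Function.Injective (opr DD x j)) {φ φ' : BC x K →ₗ[R'] BC x K}
    (hφ : φ ∈ DDx DD x j) (hφ' : φ' ∈ DDx DD x j) :
    cls DD x j (φ + φ') = cls DD x j φ + cls DD x j φ' := by
  obtain ⟨d, rfl⟩ := hφ
  obtain ⟨d', rfl⟩ := hφ'
  rw [← map_add, cls_opr hinj, cls_opr hinj, cls_opr hinj, map_add]

theorem cls_smul {j : ℕ} (hinj : Function.Injective (opr DD x j)) {φ : BC x K →ₗ[R'] BC x K}
    (hφ : φ ∈ DDx DD x j) (r : R') : cls DD x j (r • φ) = r • cls DD x j φ := by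
  obtain ⟨d, rfl⟩ := hφ
  rw [← map_smul, cls_opr hinj, cls_opr hinj, map_smul]

theorem cls_zero {j : ℕ} (hinj : Function.Injective (opr DD x j)) :
    cls DD x j (0 : BC x K →ₗ[R'] BC x K) = 0 := by
  have := cls_opr hinj (0 : BC x (DD j))
  rwa [map_zero, map_zero] at this

theorem cls_surj {j : ℕ} (hinj : Function.Injective (opr DD x j)) (z : BC x (gr DD j)) :
    ∃ φ ∈ DDx DD x j, cls DD x j φ = z := by
  obtain ⟨d, hd⟩ := BC.map_surjective (x := x)
    (g := (((DD (j + 1)).submoduleOf (DD j)).mkQ)) (Submodule.mkQ_surjective _) z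
  exact ⟨_, ⟨d, rfl⟩, by rw [cls_opr hinj, hd]⟩

theorem cls_eq_zero {j : ℕ} (hinj : Function.Injective (opr DD x j)) (h : DD (j + 1) ≤ DD j)
    {φ : BC x K →ₗ[R'] BC x K} (hφ : φ ∈ DDx DD x j) (h0 : cls DD x j φ = 0) :
    φ ∈ DDx DD x (j + 1) := by
  obtain ⟨d, rfl⟩ := hφ
  rw [cls_opr hinj] at h0
  have hex : Function.Exact (Submodule.inclusion h)
      (((DD (j + 1)).submoduleOf (DD j)).mkQ) := by
    intro z
    rw [Submodule.mkQ_apply, Submodule.Quotient.mk_eq_zero, Submodule.submoduleOf,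
      Submodule.mem_comap]
    constructor
    · intro hz
      exact ⟨⟨z, hz⟩, rfl⟩
    · rintro ⟨y, rfl⟩
      exact y.2
  obtain ⟨y, hy⟩ := (BC.map_exact (x := x) hex (Submodule.mkQ_surjective _) d).1 h0
  exact ⟨y, by rw [← hy, opr_anti]⟩

theorem cls_of_mem {j : ℕ} (hinj : Function.Injective (opr DD x j)) (h : DD (j + 1) ≤ DD j)
    {φ : BC x K →ₗ[R'] BC x K} (hφ : φ ∈ DDx DD x (j + 1)) : cls DD x j φ = 0 := by
  obtain ⟨d, rfl⟩ := hφ
  rw [← opr_anti h, cls_opr hinj, BC.map_map]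
  have : (Submodule.mkQ ((DD (j + 1)).submoduleOf (DD j))) ∘ₗ Submodule.inclusion h = 0 := by
    ext z
    change Submodule.Quotient.mk _ = 0
    rw [Submodule.Quotient.mk_eq_zero]
    exact z.2
  rw [this, BC.map_zero']
  rfl

end

/-! ### conjugation -/

section

variable {R : Type u} [CommRing R] {K : Type w} [AddCommGroup K] [Module R K]
  {DD : ℕ → Submodule R (K →ₗ[R] K)}
variable {R' : Type v} [CommRing R'] {x y z : R →+* R'}

theorem cls_sub {j : ℕ} (hinj : Function.Injective (opr DD x j)) {φ φ' : BC x K →ₗ[R'] BC x K}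
    (hφ : φ ∈ DDx DD x j) (hφ' : φ' ∈ DDx DD x j) :
    cls DD x j (φ - φ') = cls DD x j φ - cls DD x j φ' := by
  obtain ⟨d, rfl⟩ := hφ
  obtain ⟨d', rfl⟩ := hφ'
  rw [← map_sub, cls_opr hinj, cls_opr hinj, cls_opr hinj, map_sub]

theorem cls_congr {j : ℕ} (hinj : Function.Injective (opr DD x j)) (h : DD (j + 1) ≤ DD j)
    {φ φ' : BC x K →ₗ[R'] BC x K} (hφ : φ ∈ DDx DD x j) (hφ' : φ' ∈ DDx DD x j)
    (hd : φ - φ' ∈ DDx DD x (j + 1)) : cls DD x j φ = cls DD x j φ' := by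
  rw [← sub_eq_zero, ← cls_sub hinj hφ hφ']
  exact cls_of_mem hinj h hd

/-- conjugation of operators by an isomorphism. -/
def cjg (ψ : BC x K ≃ₗ[R'] BC y K) :
    (BC x K →ₗ[R'] BC x K) →ₗ[R'] (BC y K →ₗ[R'] BC y K) where
  toFun φ := ψ.toLinearMap ∘ₗ φ ∘ₗ ψ.symm.toLinearMap
  map_add' φ φ' := by ext v; simp
  map_smul' r φ := by ext v; simp

theorem cjg_apply (ψ : BC x K ≃ₗ[R'] BC y K) (φ : BC x K →ₗ[R'] BC x K) (v : BC y K) :
    cjg ψ φ v = ψ (φ (ψ.symm v)) := rfl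

theorem cjg_trans (ψ : BC x K ≃ₗ[R'] BC y K) (χ : BC y K ≃ₗ[R'] BC z K)
    (φ : BC x K →ₗ[R'] BC x K) : cjg (ψ.trans χ) φ = cjg χ (cjg ψ φ) := rfl

theorem cjg_refl (φ : BC x K →ₗ[R'] BC x K) : cjg (LinearEquiv.refl R' (BC x K)) φ = φ := rfl

theorem cjg_symm (ψ : BC x K ≃ₗ[R'] BC y K) (φ : BC x K →ₗ[R'] BC x K) :
    cjg ψ.symm (cjg ψ φ) = φ := by
  ext v
  simp [cjg_apply]

/-- transport of classes. -/
noncomputable def cj (ψ : BC x K ≃ₗ[R'] BC y K) {j : ℕ}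
    (hinj : Function.Injective (opr DD x j)) (hinj' : Function.Injective (opr DD y j))
    (h : DD (j + 1) ≤ DD j)
    (h0 : ∀ φ ∈ DDx DD x j, cjg ψ φ ∈ DDx DD y j)
    (h1 : ∀ φ ∈ DDx DD x (j + 1), cjg ψ φ ∈ DDx DD y (j + 1)) :
    BC x (gr DD j) →ₗ[R'] BC y (gr DD j) :=
  have key : ∀ φ ∈ DDx DD x j, ∀ φ' ∈ DDx DD x j, cls DD x j φ = cls DD x j φ' →
      cls DD y j (cjg ψ φ) = cls DD y j (cjg ψ φ') := fun φ hφ φ' hφ' he => by
    refine cls_congr hinj' h (h0 _ hφ) (h0 _ hφ') ?_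
    rw [← map_sub]
    refine h1 _ (cls_eq_zero hinj h (sub_mem hφ hφ') ?_)
    rw [cls_sub hinj hφ hφ', he, sub_self]
  { toFun := fun c => cls DD y j (cjg ψ (cls_surj hinj c).choose)
    map_add' := fun a b => by
      have ha := (cls_surj hinj a).choose_spec
      have hb := (cls_surj hinj b).choose_spec
      have hab := (cls_surj hinj (a + b)).choose_spec
      rw [← cls_add hinj' (h0 _ ha.1) (h0 _ hb.1), ← map_add]
      refine key _ hab.1 _ (add_mem ha.1 hb.1) ?_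
      rw [hab.2, cls_add hinj ha.1 hb.1, ha.2, hb.2]
    map_smul' := fun r a => by
      have ha := (cls_surj hinj a).choose_spec
      have hab := (cls_surj hinj (r • a)).choose_spec
      rw [RingHom.id_apply, ← cls_smul hinj' (h0 _ ha.1), ← map_smul]
      refine key _ hab.1 _ (Submodule.smul_mem _ _ ha.1) ?_
      rw [hab.2, cls_smul hinj ha.1, ha.2] }

theorem cj_cls (ψ : BC x K ≃ₗ[R'] BC y K) {j : ℕ}
    (hinj : Function.Injective (opr DD x j)) (hinj' : Function.Injective (opr DD y j))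
    (h : DD (j + 1) ≤ DD j)
    (h0 : ∀ φ ∈ DDx DD x j, cjg ψ φ ∈ DDx DD y j)
    (h1 : ∀ φ ∈ DDx DD x (j + 1), cjg ψ φ ∈ DDx DD y (j + 1))
    {φ : BC x K →ₗ[R'] BC x K} (hφ : φ ∈ DDx DD x j) :
    cj ψ hinj hinj' h h0 h1 (cls DD x j φ) = cls DD y j (cjg ψ φ) := by
  have ha := (cls_surj hinj (cls DD x j φ)).choose_spec
  refine cls_congr hinj' h (h0 _ ha.1) (h0 _ hφ) ?_
  rw [← map_sub]
  refine h1 _ (cls_eq_zero hinj h (sub_mem ha.1 hφ) ?_)
  rw [cls_sub hinj ha.1 hφ, ha.2, sub_self]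

end

/-! ### further base change -/

section

variable {R : Type u} [CommRing R] {K : Type w} [AddCommGroup K] [Module R K]
  {DD : ℕ → Submodule R (K →ₗ[R] K)}
variable {R' : Type v} [CommRing R'] {R'' : Type v} [CommRing R''] {x : R →+* R'} {x' : R →+* R''}
  {f : R' →+* R''}

theorem pull_opr (hx : f.comp x = x') (j : ℕ) (d : BC x (DD j)) :
    BC.pull f hx hx (opr DD x j d) = opr DD x' j (BC.tr f hx d) := by
  induction d using BC.ind with
  | h0 => rw [map_zero, map_zero, map_zero, BC.pull_zero]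
  | h1 r a =>
    rw [map_smul, LinearMap.map_smulₛₗ, map_smul, BC.pull_smul, opr_bc, BC.tr_bc, opr_bc,
      BC.pull_map]
  | h2 p q hp hq => rw [map_add, map_add, map_add, BC.pull_add, hp, hq]

theorem pull_mem (hx : f.comp x = x') {j : ℕ} {φ : BC x K →ₗ[R'] BC x K} (hφ : φ ∈ DDx DD x j) :
    BC.pull f hx hx φ ∈ DDx DD x' j := by
  obtain ⟨d, rfl⟩ := hφ
  exact ⟨_, (pull_opr hx j d).symm⟩

theorem cls_pull (hx : f.comp x = x') {j : ℕ} (hinj : Function.Injective (opr DD x j))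
    (hinj' : Function.Injective (opr DD x' j)) {φ : BC x K →ₗ[R'] BC x K} (hφ : φ ∈ DDx DD x j) :
    cls DD x' j (BC.pull f hx hx φ) = BC.tr f hx (cls DD x j φ) := by
  obtain ⟨d, rfl⟩ := hφ
  rw [pull_opr, cls_opr hinj, cls_opr hinj', BC.tr_map]

theorem pull_cjg {y : R →+* R'} {y' : R →+* R''} (hx : f.comp x = x') (hy : f.comp y = y')
    (ψ : BC x K ≃ₗ[R'] BC y K) (φ : BC x K →ₗ[R'] BC x K) :
    BC.pull f hy hy (cjg ψ φ) = cjg (BC.pullE f hx hy ψ) (BC.pull f hx hx φ) := by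
  change BC.pull f hy hy (ψ.toLinearMap ∘ₗ φ ∘ₗ ψ.symm.toLinearMap) = _
  rw [BC.pull_comp hy hx hy, BC.pull_comp hy hx hx]
  rfl

end

end Groth.Agent.ResProp.EF.K698
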