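import Groth.Agent.ResProp.EF.K698.Glue

/-!
# The graded pieces of a filtered torsor at the vertex `0`

`F : Filt N`, `ψ : Hom 1 0 1` over `1`.  `Q w n 0` is a cosimplicial group for the maps
`mp a = tr ψ_{0, a 0} ∘ qm a` (strictly functorial, independent of `ψ`), and the vanishing of its
`H¹`, `H²` gives `Filt.H1`, `Filt.H2`.
-/

namespace Groth.Agent.ResProp.EF.K698

universe u v w

namespace Filt

open NGpd

variable {Hg : Type v} [Group Hg] {N : NGpd.{u} Hg} (F : Filt.{u, v, w} N)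

variable {F} in
theorem qm_qm {w l m n : ℕ} (b : Fin (m + 1) → Fin (n + 1)) (a : Fin (l + 1) → Fin (m + 1))
    (i : Fin (l + 1)) (z : F.Q w l i) : F.qm w b (a i) (F.qm w a i z) = F.qm w (b ∘ a) i z := by
  obtain ⟨g, hg, rfl⟩ := F.q_surj z
  refine Eq.trans ?_ (F.q_map (b ∘ a) hg)
  rw [← F.q_map a hg, ← F.q_map b (F.G_map a hg), N.map_map]

variable {F} in
theorem qm_id {w n : ℕ} (i : Fin (n + 1)) (z : F.Q w n i) : F.qm w id i z = z := by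
  obtain ⟨g, hg, rfl⟩ := F.q_surj z
  refine Eq.trans (F.q_map id hg).symm ?_
  exact congrArg (F.q w) (N.map_id g)

variable {F} in
theorem tr_one {w n : ℕ} (i : Fin (n + 1)) (z : F.Q w n i) : F.tr w (N.one i) z = z := by
  obtain ⟨g, hg, rfl⟩ := F.q_surj z
  rw [← F.q_conj _ hg, N.one_mul, show N.inv (N.one i) = N.one i from
    (inv_eq_of_mul_eq_one _ _ (N.one_mul _)).symm, N.mul_one]

variable {F} in
theorem tr_of_pi {w n : ℕ} {i : Fin (n + 1)} {x : N.Hom n i i} (hx : N.pi x = 1)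
    (z : F.Q w n i) : F.tr w x z = z := by
  rw [F.tr_congr (x := x) (y := N.one i) (by rw [hx, pi_one]), tr_one]

variable {F} in
theorem tr_mul {w n : ℕ} {i j l : Fin (n + 1)} (x : N.Hom n i j) (y : N.Hom n j l)
    (z : F.Q w n l) : F.tr w (N.mul x y) z = F.tr w x (F.tr w y z) := by
  obtain ⟨g, hg, rfl⟩ := F.q_surj z
  rw [← F.q_conj _ hg, ← F.q_conj _ hg, ← F.q_conj _ (F.G_conj _ hg)]
  congr 1
  simp only [N.mul_assoc, NGpd.mul_inv_rev]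

variable {F} in
theorem qm_tr {w m n : ℕ} (a : Fin (m + 1) → Fin (n + 1)) {i j : Fin (m + 1)} (x : N.Hom m i j)
    (z : F.Q w m j) : F.qm w a i (F.tr w x z) = F.tr w (N.map a x) (F.qm w a j z) := by
  obtain ⟨g, hg, rfl⟩ := F.q_surj z
  rw [← F.q_conj _ hg, ← F.q_map a (F.G_conj _ hg), ← F.q_map a hg, ← F.q_conj _ (F.G_map a hg),
    N.map_mul, N.map_mul, NGpd.map_inv]

/-- the maps of the cosimplicial group `Q w n 0`. -/
def mp (ψ : N.Hom 1 0 1) (w : ℕ) {m n : ℕ} (a : Fin (m + 1) → Fin (n + 1)) :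
    F.Q w m 0 →+ F.Q w n 0 :=
  (F.tr w (ed ψ 0 (a 0))).comp (F.qm w a 0)

theorem mp_apply (ψ : N.Hom 1 0 1) {w m n : ℕ} (a : Fin (m + 1) → Fin (n + 1)) (z : F.Q w m 0) :
    F.mp ψ w a z = F.tr w (ed ψ 0 (a 0)) (F.qm w a 0 z) := rfl

theorem mp_id {ψ : N.Hom 1 0 1} (hψ : N.pi ψ = 1) {w n : ℕ} (z : F.Q w n 0) :
    F.mp ψ w id z = z := by
  refine Eq.trans (tr_of_pi ?_ _) (qm_id 0 z)
  exact (pi_ed ψ 0 0).trans hψ

theorem mp_comp {ψ : N.Hom 1 0 1} (hψ : N.pi ψ = 1) {w l m n : ℕ}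
    (b : Fin (m + 1) → Fin (n + 1)) (a : Fin (l + 1) → Fin (m + 1)) (z : F.Q w l 0) :
    F.mp ψ w b (F.mp ψ w a z) = F.mp ψ w (b ∘ a) z := by
  rw [mp_apply, mp_apply, mp_apply, qm_tr, map_ed, ← tr_mul, qm_qm]
  refine congrArg (fun f : F.Q w n (b (a 0)) →+ F.Q w n 0 => f (F.qm w (b ∘ a) 0 z)) ?_
  apply F.tr_congr
  rw [N.pi_mul, pi_ed, pi_ed, hψ, _root_.mul_one]
  exact ((pi_ed ψ 0 _).trans hψ).symm

/-- the maps do not depend on `ψ`. -/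
theorem mp_congr {ψ ψ' : N.Hom 1 0 1} (h : N.pi ψ = N.pi ψ') {w m n : ℕ}
    (a : Fin (m + 1) → Fin (n + 1)) : F.mp ψ w a = F.mp ψ' w a := by
  unfold mp
  rw [F.tr_congr (x := ed ψ 0 (a 0)) (y := ed ψ' 0 (a 0)) (by rw [pi_ed, pi_ed, h])]

theorem H1_of {ψ : N.Hom 1 0 1} (hψ : N.pi ψ = 1) {w : ℕ}
    (h : ∀ c : F.Q w 1 0, F.mp ψ w (n := 2) (e2 0 1) c + F.mp ψ w (e2 1 2) c =
      F.mp ψ w (e2 0 2) c →
      ∃ b : F.Q w 0 0, F.mp ψ w (n := 1) (e1 0) b - F.mp ψ w (e1 1) b = c) :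
    F.H1 ψ w := by
  intro c hc
  have h0 : ∀ {m n : ℕ} (a : Fin (m + 1) → Fin (n + 1)) (ha : a 0 = 0) (z : F.Q w m 0),
      HEq (F.mp ψ w a z) (F.qm w a 0 z) := by
    intro m n a ha z
    rw [mp_apply]
    have : ∀ (j : Fin (n + 1)) (hj : j = 0) (y : F.Q w n j), HEq (F.tr w (ed ψ 0 j) y) y := by
      rintro j rfl y
      exact heq_of_eq (tr_of_pi (by rw [pi_ed, hψ]) y)
    exact this _ ha _
  obtain ⟨b, hb⟩ := h c (by
    refine Eq.trans ?_ (hc.trans ?_)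
    · exact congrArg₂ (· + ·) (eq_of_heq (h0 (e2 (0 : Fin 3) 1) rfl c)) rfl
    · exact (eq_of_heq (h0 (e2 (0 : Fin 3) 2) rfl c)).symm)
  refine ⟨b, Eq.trans ?_ hb⟩
  refine congrArg₂ (· - ·) (eq_of_heq (h0 (e1 (0 : Fin 2)) rfl b)).symm ?_
  rw [mp_apply]
  refine congrArg (fun f : F.Q w 1 1 →+ F.Q w 1 0 => f (F.qm w (e1 1) 0 b)) ?_
  exact F.tr_congr (pi_ed ψ (0 : Fin 2) 1).symm

theorem H2_of {ψ : N.Hom 1 0 1} (hψ : N.pi ψ = 1) {w : ℕ}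
    (h : ∀ c : F.Q w 2 0, F.mp ψ w (n := 3) (e3 0 1 2) c + F.mp ψ w (e3 0 2 3) c =
      F.mp ψ w (e3 1 2 3) c + F.mp ψ w (e3 0 1 3) c →
      ∃ b : F.Q w 1 0, F.mp ψ w (n := 2) (e2 0 1) b + F.mp ψ w (e2 1 2) b
        - F.mp ψ w (e2 0 2) b = c) :
    F.H2 ψ w := by
  intro c hc
  have h0 : ∀ {m n : ℕ} (a : Fin (m + 1) → Fin (n + 1)) (ha : a 0 = 0) (z : F.Q w m 0),
      HEq (F.mp ψ w a z) (F.qm w a 0 z) := by
    intro m n a ha z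
    rw [mp_apply]
    have : ∀ (j : Fin (n + 1)) (hj : j = 0) (y : F.Q w n j), HEq (F.tr w (ed ψ 0 j) y) y := by
      rintro j rfl y
      exact heq_of_eq (tr_of_pi (by rw [pi_ed, hψ]) y)
    exact this _ ha _
  obtain ⟨b, hb⟩ := h c (by
    refine Eq.trans ?_ (hc.trans ?_)
    · exact congrArg₂ (· + ·) (eq_of_heq (h0 (e3 (0 : Fin 4) 1 2) rfl c))
        (eq_of_heq (h0 (e3 (0 : Fin 4) 2 3) rfl c))
    · exact congrArg₂ (· + ·) rfl (eq_of_heq (h0 (e3 (0 : Fin 4) 1 3) rfl c)).symm)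
  refine ⟨b, Eq.trans ?_ hb⟩
  refine congrArg₂ (· - ·) (congrArg₂ (· + ·) (eq_of_heq (h0 (e2 (0 : Fin 3) 1) rfl b)).symm ?_)
    (eq_of_heq (h0 (e2 (0 : Fin 3) 2) rfl b)).symm
  rfl

end Filt

end Groth.Agent.ResProp.EF.K698
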