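import Groth.Agent.ResProp.EF.K698.Vert
import Groth.Agent.ResProp.EF.K431.Gal

/-!
# `H¹`, `H²` of the graded pieces from a cartesian module over a Galois groupoid ring
-/

set_option autoImplicit false
set_option linter.dupNamespace false

open CategoryTheory Opposite

namespace Groth.Agent.ResProp.EF.K698

open K784.BC K784.PM EF56 Groth.Agent.ResProp.EF.K431

universe u v w w' u'

theorem dd_zero {D : NFᵒᵖ ⥤ CommRingCat.{u}} (N : PM.{w} D) (z : N.obj ⟨0⟩) :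
    dd N 0 z = N.map (show (⟨1⟩ : NF) ⟶ ⟨0⟩ from e1 (1 : Fin 2)) z
      - N.map (show (⟨1⟩ : NF) ⟶ ⟨0⟩ from e1 (0 : Fin 2)) z := by
  have h0 : δ 0 0 = (show (⟨1⟩ : NF) ⟶ ⟨0⟩ from e1 (1 : Fin 2)) := by
    funext t; fin_cases t; rfl
  have h1 : δ 0 1 = (show (⟨1⟩ : NF) ⟶ ⟨0⟩ from e1 (0 : Fin 2)) := by
    funext t; fin_cases t; rfl
  rw [dd_apply, Fin.sum_univ_two, h0, h1]
  simp [sub_eq_add_neg]

theorem dd_one {D : NFᵒᵖ ⥤ CommRingCat.{u}} (N : PM.{w} D) (z : N.obj ⟨1⟩) :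
    dd N 1 z = N.map (show (⟨2⟩ : NF) ⟶ ⟨1⟩ from e2 (1 : Fin 3) 2) z
      - N.map (show (⟨2⟩ : NF) ⟶ ⟨1⟩ from e2 (0 : Fin 3) 2) z
      + N.map (show (⟨2⟩ : NF) ⟶ ⟨1⟩ from e2 (0 : Fin 3) 1) z := by
  have h0 : δ 1 0 = (show (⟨2⟩ : NF) ⟶ ⟨1⟩ from e2 (1 : Fin 3) 2) := by
    funext t; fin_cases t <;> rfl
  have h1 : δ 1 1 = (show (⟨2⟩ : NF) ⟶ ⟨1⟩ from e2 (0 : Fin 3) 2) := by
    funext t; fin_cases t <;> rfl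
  have h2 : δ 1 2 = (show (⟨2⟩ : NF) ⟶ ⟨1⟩ from e2 (0 : Fin 3) 1) := by
    funext t; fin_cases t <;> rfl
  rw [dd_apply, Fin.sum_univ_three, h0, h1, h2]
  simp [sub_eq_add_neg]

theorem dd_two {D : NFᵒᵖ ⥤ CommRingCat.{u}} (N : PM.{w} D) (z : N.obj ⟨2⟩) :
    dd N 2 z = N.map (show (⟨3⟩ : NF) ⟶ ⟨2⟩ from e3 (1 : Fin 4) 2 3) z
      - N.map (show (⟨3⟩ : NF) ⟶ ⟨2⟩ from e3 (0 : Fin 4) 2 3) z
      + N.map (show (⟨3⟩ : NF) ⟶ ⟨2⟩ from e3 (0 : Fin 4) 1 3) z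
      - N.map (show (⟨3⟩ : NF) ⟶ ⟨2⟩ from e3 (0 : Fin 4) 1 2) z := by
  have h0 : δ 2 0 = (show (⟨3⟩ : NF) ⟶ ⟨2⟩ from e3 (1 : Fin 4) 2 3) := by
    funext t; fin_cases t <;> rfl
  have h1 : δ 2 1 = (show (⟨3⟩ : NF) ⟶ ⟨2⟩ from e3 (0 : Fin 4) 2 3) := by
    funext t; fin_cases t <;> rfl
  have h2 : δ 2 2 = (show (⟨3⟩ : NF) ⟶ ⟨2⟩ from e3 (0 : Fin 4) 1 3) := by
    funext t; fin_cases t <;> rfl
  have h3 : δ 2 3 = (show (⟨3⟩ : NF) ⟶ ⟨2⟩ from e3 (0 : Fin 4) 1 2) := by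
    funext t; fin_cases t <;> rfl
  rw [dd_apply, Fin.sum_univ_four, h0, h1, h2, h3]
  simp [sub_eq_add_neg]

namespace Filt

open NGpd

variable {Hg : Type v} [Group Hg] {N : NGpd.{u} Hg} (F : Filt.{u, v, w} N)
  {D : NFᵒᵖ ⥤ CommRingCat.{u'}}

theorem H1_of_PM (M : PM.{w'} D) {ψ : N.Hom 1 0 1} (hψ : N.pi ψ = 1) {w : ℕ}
    (e : ∀ n : ℕ, M.obj ⟨n⟩ ≃+ F.Q w n 0)
    (he : ∀ {m n : ℕ} (a : Fin (m + 1) → Fin (n + 1)) (z : M.obj ⟨m⟩),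
      e n (M.map (show (⟨n⟩ : NF) ⟶ ⟨m⟩ from a) z) = F.mp ψ w a (e m z))
    (hex : ∀ z : M.obj ⟨1⟩, dd M 1 z = 0 → ∃ y, dd M 0 y = z) : F.H1 ψ w := by
  apply F.H1_of hψ
  intro c hc
  obtain ⟨z, rfl⟩ := (e 1).surjective c
  obtain ⟨y, hy⟩ := hex z (by
    rw [dd_one]
    apply (e 2).injective
    rw [map_add, map_sub, he, he, he, map_zero, ← hc]
    abel)
  refine ⟨-(e 0 y), ?_⟩
  rw [← hy, dd_zero, map_sub, he, he, map_neg, map_neg]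
  abel

theorem H2_of_PM (M : PM.{w'} D) {ψ : N.Hom 1 0 1} (hψ : N.pi ψ = 1) {w : ℕ}
    (e : ∀ n : ℕ, M.obj ⟨n⟩ ≃+ F.Q w n 0)
    (he : ∀ {m n : ℕ} (a : Fin (m + 1) → Fin (n + 1)) (z : M.obj ⟨m⟩),
      e n (M.map (show (⟨n⟩ : NF) ⟶ ⟨m⟩ from a) z) = F.mp ψ w a (e m z))
    (hex : ∀ z : M.obj ⟨2⟩, dd M 2 z = 0 → ∃ y, dd M 1 y = z) : F.H2 ψ w := by
  apply F.H2_of hψ
  intro c hc
  obtain ⟨z, rfl⟩ := (e 2).surjective c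
  obtain ⟨y, hy⟩ := hex z (by
    rw [dd_two]
    apply (e 3).injective
    rw [map_sub, map_add, map_sub, he, he, he, he, map_zero, sub_eq_zero, ← eq_sub_iff_add_eq]
    rw [← eq_sub_iff_add_eq] at hc
    rw [hc]
    abel)
  refine ⟨e 1 y, ?_⟩
  rw [← hy, dd_one, map_add, map_sub, he, he, he]
  abel

/-- the Galois case -/
theorem H1_of_gal (M : PM.{w'} D) (hM : M.Cart) {C : Type u'} [CommRing C]
    {c : C →+* D.obj (op ⟨0⟩)} (hc : IsGal D c) {ψ : N.Hom 1 0 1} (hψ : N.pi ψ = 1) {w : ℕ}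
    (e : ∀ n : ℕ, M.obj ⟨n⟩ ≃+ F.Q w n 0)
    (he : ∀ {m n : ℕ} (a : Fin (m + 1) → Fin (n + 1)) (z : M.obj ⟨m⟩),
      e n (M.map (show (⟨n⟩ : NF) ⟶ ⟨m⟩ from a) z) = F.mp ψ w a (e m z)) : F.H1 ψ w :=
  F.H1_of_PM M hψ e he (hc.exact hM 0)

/-- the Galois case -/
theorem H2_of_gal (M : PM.{w'} D) (hM : M.Cart) {C : Type u'} [CommRing C]
    {c : C →+* D.obj (op ⟨0⟩)} (hc : IsGal D c) {ψ : N.Hom 1 0 1} (hψ : N.pi ψ = 1) {w : ℕ}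
    (e : ∀ n : ℕ, M.obj ⟨n⟩ ≃+ F.Q w n 0)
    (he : ∀ {m n : ℕ} (a : Fin (m + 1) → Fin (n + 1)) (z : M.obj ⟨m⟩),
      e n (M.map (show (⟨n⟩ : NF) ⟶ ⟨m⟩ from a) z) = F.mp ψ w a (e m z)) : F.H2 ψ w :=
  F.H2_of_PM M hψ e he (hc.exact hM 1)

end Filt

end Groth.Agent.ResProp.EF.K698
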